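import Cfsg.Agent.Known.AutPSL2
import Cfsg.Agent.GenDihedral.Red.Tools

/-!
Field automorphisms and Sylow normalisers in defining characteristic for `PSL(2, q)`.
-/

set_option autoImplicit false
set_option linter.unusedSectionVars false
set_option linter.style.haveILetI false

namespace Cfsg.Lib.EqualOrder

open Subgroup Matrix
open Cfsg.Lib.Known.AutPSL2
open scoped Pointwise

universe v

variable {F : Type v} [Field F] [Fintype F]

local notation "PG" => Matrix.ProjectiveSpecialLinearGroup (Fin 2) F
local notation "SG" => Matrix.SpecialLinearGroup (Fin 2) F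

/-- A field automorphism of prime order dividing the degree. -/
theorem exists_outer_aut {p f r : ℕ} (hp : p.Prime) (hF : Fintype.card F = p ^ f) (hr : r.Prime) (hrf : r ∣ f) :
    ∃ α : MulAut PG, orderOf α = r ∧ α ∉ Cfsg.Inn PG := by
  haveI := Fact.mk hp
  haveI := Fact.mk hr
  haveI : CharP F p := charP_of_card_eq_prime_pow hF
  letI : Algebra (ZMod p) F := ZMod.algebra F p
  haveI : FiniteDimensional (ZMod p) F := Module.Finite.of_finite
  have hcard : Nat.card (F ≃ₐ[ZMod p] F) = f := by
    rw [IsGalois.card_aut_eq_finrank]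
    have h := Module.natCard_eq_pow_finrank (K := ZMod p) (V := F)
    rw [Nat.card_eq_fintype_card, hF, Nat.card_zmod] at h
    exact (Nat.pow_right_injective hp.two_le h).symm
  obtain ⟨σ, hσ⟩ := exists_prime_orderOf_dvd_card' (G := F ≃ₐ[ZMod p] F) r (hcard.symm ▸ hrf)
  have key : ∀ τ : F ≃ₐ[ZMod p] F, fieldAut p τ ∈ Cfsg.Inn PG → τ = 1 := by
    rintro τ ⟨g, hg⟩
    exact (inner_imp p (a := 1) (g := g) (by rw [map_one, one_mul, hg])).1
  have hσ1 : σ ≠ 1 := fun e => by rw [e, orderOf_one] at hσ; exact hr.one_lt.ne hσ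
  refine ⟨fieldAut p σ, orderOf_eq_prime ?_ fun e => hσ1 (key σ (by rw [e]; exact one_mem _)), fun h => hσ1 (key σ h)⟩
  rw [← map_pow, ← hσ, pow_orderOf_eq_one, map_one]

/-- The upper triangular group. -/
def upperTri (F : Type v) [Field F] : Subgroup (Matrix.SpecialLinearGroup (Fin 2) F) where
  carrier := {g | g.1 1 0 = 0}
  mul_mem' := fun {g h} hg hh => by
    show (g * h).1 1 0 = 0
    simp [mul_apply, show g.1 1 0 = 0 from hg, show h.1 1 0 = 0 from hh]
  one_mem' := by simp
  inv_mem' := fun {g} hg => by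
    show (g⁻¹).1 1 0 = 0
    simp [adjugate_fin_two, show g.1 1 0 = 0 from hg]

theorem upperTri_det {g : SG} (h : g ∈ upperTri F) : g.1 0 0 * g.1 1 1 = 1 := by
  have := g.2
  rw [det_fin_two, show g.1 1 0 = 0 from h, mul_zero, sub_zero] at this
  exact this

theorem upperTri_solvable : Group.IsSolvable (upperTri F) := by
  let d : upperTri F →* Fˣ := MonoidHom.mk' (fun x => ⟨x.1.1 0 0, x.1.1 1 1, upperTri_det x.2,
    by rw [mul_comm]; exact upperTri_det x.2⟩) fun x y => Units.ext (by
      simp [mul_apply, show y.1.1 1 0 = 0 from y.2])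
  haveI : Group.IsSolvable d.ker := Group.isSolvable_of_comm fun x y => by
    have hx : x.1.1.1 0 0 = 1 := congrArg Units.val x.2
    have hy : y.1.1.1 0 0 = 1 := congrArg Units.val y.2
    have hx1 := upperTri_det x.1.2
    have hy1 := upperTri_det y.1.2
    rw [hx, one_mul] at hx1
    rw [hy, one_mul] at hy1
    have hx0 : x.1.1.1 1 0 = 0 := x.1.2
    have hy0 : y.1.1.1 1 0 = 0 := y.1.2
    refine Subtype.ext (Subtype.ext (Subtype.ext ?_))
    show x.1.1.1 * y.1.1.1 = y.1.1.1 * x.1.1.1
    ext i j
    fin_cases i <;> fin_cases j <;> simp [mul_apply, hx, hy, hx0, hy0, hx1, hy1, add_comm]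
  exact Group.isSolvable_of_ker_le_range d.ker.subtype d (by simp)

/-- The normaliser of a Sylow subgroup in the defining characteristic is solvable. -/
theorem psl_normalizer_solvable {p f : ℕ} (hp : p.Prime) (hf : 1 ≤ f) (hF : Fintype.card F = p ^ f)
    (U : Sylow p PG) : Group.IsSolvable (normalizer ((U : Subgroup PG) : Set PG)) := by
  haveI := Fact.mk hp
  haveI : CharP F p := charP_of_card_eq_prime_pow hF
  letI : Algebra (ZMod p) F := ZMod.algebra F p
  obtain ⟨U₀, hU₀⟩ := exists_sylow_u (F := F) p hf hF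
  obtain ⟨g, rfl⟩ := MulAction.exists_smul_eq PG U₀ U
  have hsol : Group.IsSolvable (normalizer ((U₀ : Subgroup PG) : Set PG)) := by
    haveI := upperTri_solvable (F := F)
    haveI : Group.IsSolvable ((normalizer ((U₀ : Subgroup PG) : Set PG)).comap π) := by
      refine Group.isSolvable_of_isSolvable_injective (Subgroup.inclusion_injective (K := upperTri F) fun M hM => ?_)
      have h1 : π M * π (uS 1) * (π M)⁻¹ ∈ (U₀ : Subgroup PG) :=
        (mem_normalizer_iff.1 (show π M ∈ normalizer ((U₀ : Subgroup PG) : Set PG) from hM) _).1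
          (hU₀.ge ⟨Multiplicative.ofAdd 1, rfl⟩)
      rw [hU₀] at h1
      obtain ⟨x, hx⟩ := h1
      have h2 : π (uS x.toAdd) = π (M * uS 1 * M⁻¹) := by rw [map_mul, map_mul, map_inv]; exact hx
      have h3 := π_eq_apply h2 1 0 (by simp [coe_uS])
      rw [conj_uS] at h3
      show M.1 1 0 = 0
      simpa using h3
    exact Group.isSolvable_of_surjective (MonoidHom.subgroupComap_surjective_of_surjective π _
      (QuotientGroup.mk'_surjective _))
  haveI := hsol
  have e : ((g • U₀ : Sylow p PG) : Subgroup PG) = (U₀ : Subgroup PG).map (MulAut.conj g).toMonoidHom := rfl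
  rw [e, ← map_equiv_normalizer_eq]
  exact Group.isSolvable_of_surjective (MonoidHom.subgroupMap_surjective _ _)

end Cfsg.Lib.EqualOrder
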