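import Cfsg.Agent.EqualOrder.Four
import Cfsg.Agent.EqualOrder.Outer
import Cfsg.Agent.OddChar.PF.OddOrder
import Cfsg.Agent.S4020
import Cfsg.Agent.S4025
import Cfsg.Agent.S0813

/-!
Almost simple groups with socle `PSL(2, q)`, `q ≡ 3, 5 (mod 8)`, and conjugate `p`-subgroups of equal order.
-/

set_option autoImplicit false
set_option linter.unusedSectionVars false
set_option linter.style.haveILetI false

namespace Cfsg.Lib.EqualOrder

open Subgroup
open scoped Pointwise

universe u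

variable {G : Type u} [Group G] [Finite G]

/-- A normal subgroup containing an element of prime order `r` contains all of them. -/
theorem PEqConj.mem_of_prime_order (h : PEqConj G) {N : Subgroup G} [hN : N.Normal] {r : ℕ} (hr : r.Prime)
    {x y : G} (hx : x ∈ N) (hxo : orderOf x = r) (hyo : orderOf y = r) : y ∈ N := by
  obtain ⟨g, hg⟩ := h r hr (zpowers x) (zpowers y)
    (IsPGroup.of_card (n := 1) (by rw [Nat.card_zpowers, hxo, pow_one]))
    (IsPGroup.of_card (n := 1) (by rw [Nat.card_zpowers, hyo, pow_one]))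
    (by rw [Nat.card_zpowers, Nat.card_zpowers, hxo, hyo])
  obtain ⟨z, hz, rfl⟩ := hg.le (mem_zpowers y)
  exact hN.conj_mem z (zpowers_le.2 hx hz) g

/-- An odd power of a prime congruent to `3` or `5` modulo eight. -/
theorem odd_degree {p f : ℕ} (h8 : p ^ f % 8 = 3 ∨ p ^ f % 8 = 5) :
    Odd f ∧ p ^ f % 8 = p % 8 := by
  have hodd : Odd (p ^ f) := Nat.odd_iff.2 (by omega)
  have h2 : p ^ 2 % 8 = 1 ∨ f = 0 := by
    rcases Nat.eq_zero_or_pos f with hf | hf
    · exact Or.inr hf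
    refine Or.inl ?_
    obtain ⟨m, hm⟩ := (Nat.odd_pow_iff hf.ne').1 hodd
    obtain ⟨j, hj⟩ := Nat.even_mul_succ_self m
    rw [hm, show (2 * m + 1) ^ 2 = 4 * (m * (m + 1)) + 1 by ring, hj]
    omega
  rcases h2 with h2 | rfl
  swap
  · norm_num at h8
  have hk : ∀ k, (p ^ 2) ^ k % 8 = 1 := fun k => by rw [Nat.pow_mod, h2, one_pow, Nat.one_mod]
  rcases Nat.even_or_odd' f with ⟨k, rfl | rfl⟩
  · rw [pow_mul, hk] at h8
    omega
  · refine ⟨odd_two_mul_add_one k, ?_⟩
    rw [pow_succ, pow_mul, Nat.mul_mod, hk, one_mul, Nat.mod_mod]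

theorem PEqConj.psl_case (h : PEqConj G) (L : Subgroup G) [L.Normal] {F : Type} [Field F] [Fintype F]
    (h8 : Fintype.card F % 8 = 3 ∨ Fintype.card F % 8 = 5) (h5 : 5 ≤ Fintype.card F)
    (hidx : Odd L.index) (hcen : centralizer (L : Set G) = ⊥)
    (e : ↥L ≃* Matrix.ProjectiveSpecialLinearGroup (Fin 2) F) :
    ∃ p : ℕ, p.Prime ∧ (p % 8 = 3 ∨ p % 8 = 5) ∧ (Fintype.card F = p ∨ Fintype.card F = p ^ 3) ∧
      Nonempty (G ≃* Matrix.ProjectiveSpecialLinearGroup (Fin 2) F) := by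
  classical
  obtain ⟨p, f, hp, hf, hF⟩ : ∃ p f : ℕ, p.Prime ∧ 1 ≤ f ∧ Fintype.card F = p ^ f := by
    obtain ⟨n, hp, hn⟩ := FiniteField.card F (ringChar F)
    exact ⟨_, _, hp, n.2, hn⟩
  haveI := Fact.mk hp
  rw [hF] at h8 h5
  obtain ⟨hfodd, hp8⟩ := odd_degree h8
  rw [hp8] at h8
  have hq1 : p ^ f % 2 = 1 := by omega
  have hL : 2 * Nat.card ↥L = p ^ f * ((p ^ f) ^ 2 - 1) := by
    have := Cfsg.Lib.Classical.SmallPSL.card_psl hF
    rw [Nat.gcd_eq_left (Nat.dvd_of_mod_eq_zero (by omega))] at this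
    rw [Nat.card_congr e.toEquiv, this]
  have hA : Nat.card (MulAut (Matrix.ProjectiveSpecialLinearGroup (Fin 2) F)) = 2 * f * Nat.card ↥L := by
    rw [Cfsg.Agent.S0813.result p f hf hF 2 le_rfl (fun _ => by omega), if_pos rfl, one_mul,
      Cfsg.Lib.Classical.card_PGL, Cfsg.Lib.Classical.SLTwoTori.card_SL2, hF, ← hL]
    ring
  have hi : L.index ∣ f := by
    have hd := card_dvd_aut hcen e
    rw [hA, ← L.card_mul_index, mul_comm (2 * f)] at hd
    exact Nat.Coprime.dvd_of_dvd_mul_left (Nat.coprime_two_right.2 hidx) (Nat.dvd_of_mul_dvd_mul_left Nat.card_pos hd)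
  suffices ht : (f = 1 ∨ f = 3) ∧ L.index = 1 by
    refine ⟨p, hp, h8, ht.1.imp (fun e => by rw [hF, e, pow_one]) (fun e => by rw [hF, e]), ?_⟩
    exact ⟨(Subgroup.topEquiv.symm.trans (MulEquiv.subgroupCongr (index_eq_one.1 ht.2).symm)).trans e⟩
  by_cases hf1 : f = 1
  · exact ⟨Or.inl hf1, Nat.dvd_one.1 (hf1 ▸ hi)⟩
  have hf3 : 3 ≤ f := by obtain ⟨k, hk⟩ := hfodd; omega
  -- Sylow subgroups in the defining characteristic
  haveI : CharP F p := charP_of_card_eq_prime_pow hF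
  letI : Algebra (ZMod p) F := ZMod.algebra F p
  obtain ⟨U₀, hU₀⟩ := Cfsg.Lib.Known.AutPSL2.exists_sylow_u (F := F) p hf hF
  set U : Sylow p ↥L := U₀.mapSurjective (f := e.symm.toMonoidHom) e.symm.surjective with hUdef
  have hUc : Nat.card ↥((U : Subgroup ↥L).map L.subtype) = p ^ f := by
    rw [card_map_of_injective L.subtype_injective]
    show Nat.card ↥((U₀ : Subgroup (Matrix.ProjectiveSpecialLinearGroup (Fin 2) F)).map e.symm.toMonoidHom) = p ^ f
    rw [card_map_of_injective e.symm.injective, hU₀,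
      Nat.card_congr (MonoidHom.ofInjective (Cfsg.Lib.Known.AutPSL2.u_injective (F := F))).toEquiv.symm,
      Nat.card_congr Multiplicative.toAdd, Nat.card_eq_fintype_card, hF]
  have hUexp : ∀ x ∈ (U : Subgroup ↥L).map L.subtype, x ^ p = 1 := by
    rintro _ ⟨_, ⟨y, hy, rfl⟩, rfl⟩
    obtain ⟨a, rfl⟩ := hU₀.le hy
    rw [← map_pow, ← map_pow, ← map_pow]
    have ha : a ^ p = 1 := Multiplicative.toAdd.injective (by
      rw [toAdd_pow, toAdd_one, nsmul_eq_mul, CharP.cast_eq_zero, zero_mul])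
    rw [ha, map_one, map_one, map_one]
  obtain ⟨R, hR⟩ := (U.2.map L.subtype).exists_le_sylow
  obtain ⟨n, hn⟩ := IsPGroup.iff_card.1 R.2
  have hfn : f ≤ n := by
    have hd := card_dvd_of_le hR
    rw [hUc, hn] at hd
    exact (Nat.pow_dvd_pow_iff_le_right hp.one_lt).1 hd
  have hel : Cfsg.IsElementaryAbelian p (R : Subgroup G) := by
    rcases Cfsg.Agent.S4020.result h R with hc | hel | ⟨⟨q⟩⟩
    · exfalso
      haveI := hc
      haveI : IsCyclic ↥((U : Subgroup ↥L).map L.subtype) :=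
        isCyclic_of_injective (Subgroup.inclusion hR) (Subgroup.inclusion_injective hR)
      obtain ⟨⟨z, hz⟩, hgen⟩ := IsCyclic.exists_generator (α := ↥((U : Subgroup ↥L).map L.subtype))
      have h1 := orderOf_eq_card_of_forall_mem_zpowers hgen
      rw [Subgroup.orderOf_mk, hUc] at h1
      have h2 := orderOf_dvd_of_pow_eq_one (hUexp z hz)
      rw [h1] at h2
      have := (Nat.pow_dvd_pow_iff_le_right hp.one_lt).1 (show p ^ f ∣ p ^ 1 by rwa [pow_one])
      omega
    · exact hel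
    · exfalso
      have hq := Nat.card_congr q.toEquiv
      rw [hn, Nat.card_eq_fintype_card (α := QuaternionGroup 2), QuaternionGroup.card] at hq
      have : p ∣ 2 ^ 3 := by rw [show (2 : ℕ) ^ 3 = 4 * 2 by norm_num, ← hq]; exact dvd_pow_self p (by omega)
      have := (Nat.prime_dvd_prime_iff_eq hp Nat.prime_two).1 (hp.dvd_of_dvd_pow this)
      omega
  set N := normalizer ((R : Subgroup G) : Set G) with hN
  have hRU : (R : Subgroup G).subgroupOf L = (U : Subgroup ↥L) :=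
    U.3 R.2.comap_subtype fun x hx => hR ⟨x, hx, rfl⟩
  haveI : Group.IsSolvable ↥N := by
    refine GenDihedral.solvable_ext (L.subgroupOf N) ?_ (Cfsg.Agent.PF.isSolvable_of_odd _ ?_)
    · haveI := psl_normalizer_solvable hp hf hF U₀
      let ψ : ↥(L.subgroupOf N) →* ↥L :=
        (N.subtype.comp (L.subgroupOf N).subtype).codRestrict L fun x => x.2
      have key : ∀ z : ↥L, z ∈ (U : Subgroup ↥L) ↔ e z ∈ (U₀ : Subgroup (Matrix.ProjectiveSpecialLinearGroup (Fin 2) F)) := fun z => by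
        show z ∈ (U₀ : Subgroup (Matrix.ProjectiveSpecialLinearGroup (Fin 2) F)).map e.symm.toMonoidHom ↔ _
        rw [mem_map_equiv]; rfl
      let φ := (e.toMonoidHom.comp ψ).codRestrict
        (normalizer ((U₀ : Subgroup (Matrix.ProjectiveSpecialLinearGroup (Fin 2) F)) : Set (Matrix.ProjectiveSpecialLinearGroup (Fin 2) F))) fun x => by
          refine mem_normalizer_iff.2 fun y => ?_
          obtain ⟨y, rfl⟩ := e.surjective y
          show e y ∈ (U₀ : Subgroup (Matrix.ProjectiveSpecialLinearGroup (Fin 2) F)) ↔ e (ψ x) * e y * (e (ψ x))⁻¹ ∈ (U₀ : Subgroup (Matrix.ProjectiveSpecialLinearGroup (Fin 2) F))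
          rw [← map_inv, ← map_mul, ← map_mul, ← key, ← key, ← hRU, mem_subgroupOf, mem_subgroupOf]
          exact mem_normalizer_iff.1 (x : ↥N).2 (y : G)
      exact Group.isSolvable_of_isSolvable_injective (f := φ) fun a b hab =>
        Subtype.ext (Subtype.ext (congrArg (fun z : ↥L => (z : G)) (e.injective (congrArg Subtype.val hab))))
    · rw [← index_eq_card]
      exact hidx.of_dvd_nat (relIndex_dvd_index_of_normal L N)
  rcases Cfsg.Agent.S4025.result (h p hp) R n (by omega) hel hn N hN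
    (Group.isSolvable_of_surjective (QuotientGroup.mk'_surjective (Cfsg.pPrimeCore p ↥N))) with
    ⟨hn3, -, -⟩ | ⟨-, hp2, -⟩
  swap
  · omega
  obtain rfl : f = 3 := by omega
  refine ⟨Or.inr rfl, ((Nat.dvd_prime Nat.prime_three).1 hi).resolve_right fun hi3 => ?_⟩
  -- the field automorphism of order three lies in `G`
  set Φ := (MulAut.congr e).toMonoidHom.comp (MulAut.conjNormal : G →* MulAut ↥L) with hΦ
  have hΦi : Function.Injective Φ := (MulAut.congr e).injective.comp (conjNormal_injective hcen)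
  obtain ⟨α, hα3, hαi⟩ := exists_outer_aut (F := F) hp hF Nat.prime_three dvd_rfl
  have hr2 : Φ.range.index = 2 := by
    have h1 := Φ.range.card_mul_index
    rw [Nat.card_congr (MonoidHom.ofInjective hΦi).toEquiv.symm, ← L.card_mul_index, hi3, hA] at h1
    have hpos : 0 < Nat.card ↥L := Nat.card_pos
    exact Nat.eq_of_mul_eq_mul_left (by omega : 0 < Nat.card ↥L * 3) (h1.trans (by ring))
  have hαr : α ∈ Φ.range := by
    have h4 : α = α * α * (α * α) := by
      have h0 := pow_orderOf_eq_one α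
      rw [hα3] at h0
      calc α = α ^ 3 * α := by rw [h0, one_mul]
        _ = α * α * (α * α) := by rw [show α ^ 3 = α * α * α by rw [pow_succ, pow_two]]; group
    rw [h4]
    exact mul_mem (mul_self_mem_of_index_two hr2 α) (mul_self_mem_of_index_two hr2 α)
  obtain ⟨g, rfl⟩ := hαr
  rw [orderOf_injective Φ hΦi] at hα3
  have h3L : 3 ∣ Nat.card ↥L := by
    refine (Nat.Coprime.dvd_mul_left (by norm_num : Nat.Coprime 3 2)).1 ?_
    rw [hL]
    obtain ⟨m, hm⟩ : ∃ m, p ^ 3 = 3 * m ∨ p ^ 3 = 3 * m + 1 ∨ p ^ 3 = 3 * m + 2 := ⟨p ^ 3 / 3, by omega⟩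
    rcases hm with hm | hm | hm
    · exact dvd_mul_of_dvd_left ⟨m, hm⟩ _
    · refine dvd_mul_of_dvd_right ⟨3 * m * m + 2 * m, ?_⟩ _
      rw [hm, show (3 * m + 1) ^ 2 = 3 * (3 * m * m + 2 * m) + 1 by ring, Nat.add_sub_cancel]
    · refine dvd_mul_of_dvd_right ⟨3 * m * m + 4 * m + 1, ?_⟩ _
      rw [hm, show (3 * m + 2) ^ 2 = 3 * (3 * m * m + 4 * m + 1) + 1 by ring, Nat.add_sub_cancel]
  haveI : Fact (Nat.Prime 3) := ⟨Nat.prime_three⟩
  obtain ⟨⟨x, hxL⟩, hx⟩ := exists_prime_orderOf_dvd_card' (G := ↥L) 3 h3L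
  rw [Subgroup.orderOf_mk] at hx
  have hgL : g ∈ L := h.mem_of_prime_order Nat.prime_three hxL hx hα3
  refine hαi ⟨e ⟨g, hgL⟩, MulEquiv.ext fun z => ?_⟩
  obtain ⟨z, rfl⟩ := e.surjective z
  show e ⟨g, hgL⟩ * e z * (e ⟨g, hgL⟩)⁻¹ = e (MulAut.conjNormal g (e.symm (e z)))
  rw [e.symm_apply_apply, ← map_inv, ← map_mul, ← map_mul]
  exact congrArg e (Subtype.ext (MulAut.conjNormal_apply g z).symm)

end Cfsg.Lib.EqualOrder
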