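import Cfsg.Agent.EqualOrder.Basic
import Cfsg.Agent.OddChar.PF.OddOrder
import Cfsg.Agent.S4025
import Cfsg.Agent.GWFour.Consumers.Target

/-!
Elementary abelian Sylow 2-subgroups of order at least eight: the normal case and the socle.
-/

set_option autoImplicit false
set_option linter.unusedSectionVars false
set_option linter.style.haveILetI false

namespace Cfsg.Lib.EqualOrder

open Subgroup

universe u

variable {G : Type u} [Group G] [Finite G]

theorem mem_of_involution (h : PEqConj G) {N : Subgroup G} [hN : N.Normal] {x y : G} (hx : x ∈ N)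
    (hx2 : orderOf x = 2) (hy2 : orderOf y = 2) : y ∈ N := by
  obtain ⟨g, rfl⟩ := h.involutions hx2 hy2
  exact hN.conj_mem x hx g

theorem exists_involution {M : Subgroup G} (hM : 2 ∣ Nat.card ↥M) : ∃ x ∈ M, orderOf x = 2 := by
  haveI : Fact (Nat.Prime 2) := ⟨Nat.prime_two⟩
  obtain ⟨⟨y, hyM⟩, hy⟩ := exists_prime_orderOf_dvd_card' (G := ↥M) 2 hM
  exact ⟨y, hyM, by rwa [Subgroup.orderOf_mk] at hy⟩

theorem sylow_le_of_normal (h : PEqConj G) {P : Sylow 2 G} (hel : Cfsg.IsElementaryAbelian 2 (P : Subgroup G))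
    {N : Subgroup G} [N.Normal] {x : G} (hx : x ∈ N) (hx2 : orderOf x = 2) : (P : Subgroup G) ≤ N := by
  intro y hy
  by_cases h1 : y = 1
  · exact h1 ▸ one_mem N
  exact mem_of_involution h hx hx2 (orderOf_eq_prime (hel.2 y hy) h1)

theorem exists_exponent {P : Sylow 2 G} (h8 : 8 ≤ Nat.card ↥(P : Subgroup G)) :
    ∃ n : ℕ, 3 ≤ n ∧ Nat.card ↥(P : Subgroup G) = 2 ^ n := by
  haveI : Fact (Nat.Prime 2) := ⟨Nat.prime_two⟩
  obtain ⟨n, hn⟩ := IsPGroup.iff_card.1 P.2
  refine ⟨n, ?_, hn⟩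
  by_contra hlt
  rw [hn] at h8
  interval_cases n <;> norm_num at h8

theorem normalizer_solvable (P : Sylow 2 G) :
    Group.IsSolvable ↥(normalizer ((P : Subgroup G) : Set G)) := by
  haveI : Fact (Nat.Prime 2) := ⟨Nat.prime_two⟩
  set N := normalizer ((P : Subgroup G) : Set G) with hN
  haveI : ((P : Subgroup G).subgroupOf N).Normal := normal_in_normalizer
  refine GenDihedral.solvable_ext ((P : Subgroup G).subgroupOf N)
    (GenDihedral.solvable_of_two (P.2.comap_subtype)) (Cfsg.Agent.PF.isSolvable_of_odd _ ?_)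
  rw [← index_eq_card]
  exact Nat.not_even_iff_odd.1 fun he =>
    P.not_dvd_index (he.two_dvd.trans (relIndex_dvd_index_of_le le_normalizer))

/-- The three solvable groups with normal Sylow 2-subgroup. -/
theorem PEqConj.rank_normal (h : PEqConj G) (hO : GenDihedral.NoOdd G) (P : Sylow 2 G)
    (hel : Cfsg.IsElementaryAbelian 2 (P : Subgroup G)) (h8 : 8 ≤ Nat.card ↥(P : Subgroup G))
    (hnt : ¬ GenDihedral.NoTwo G) :
    Nonempty (G ≃* Cfsg.affineGroup (GaloisField 2 3)) ∨ Nonempty (G ≃* Cfsg.semiaffineGroup (GaloisField 2 3)) ∨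
      Nonempty (G ≃* Cfsg.semiaffineGroup (GaloisField 2 5)) := by
  haveI : Fact (Nat.Prime 2) := ⟨Nat.prime_two⟩
  simp only [GenDihedral.NoTwo, not_forall] at hnt
  obtain ⟨A, hA, hexp, hAb⟩ := hnt
  haveI := hA
  obtain ⟨x, hx, hx1⟩ := A.bot_or_exists_ne_one.resolve_left hAb
  have hPA := sylow_le_of_normal h hel hx (orderOf_eq_prime (by rw [pow_two, hexp x hx]) hx1)
  have hA2 : IsPGroup 2 ↥A := fun a => ⟨1, Subtype.ext (by simp [pow_two, hexp _ a.2])⟩
  have hAP : A = (P : Subgroup G) := P.3 hA2 hPA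
  have htop : normalizer ((P : Subgroup G) : Set G) = ⊤ := by rw [← hAP]; exact normalizer_eq_top A
  set N := normalizer ((P : Subgroup G) : Set G) with hN
  obtain ⟨n, hn, hcard⟩ := exists_exponent h8
  set e : ↥N ≃* G := (MulEquiv.subgroupCongr htop).trans Subgroup.topEquiv with he
  have hK : Cfsg.pPrimeCore 2 ↥N = ⊥ := by
    have h1 := Cfsg.Lib.Components.pPrimeCore_map_equiv (p := 2) e
    have h2 : Cfsg.pPrimeCore 2 G = ⊥ := hO _ (Cfsg.Lib.Components.normal_of_mem_sSup_normal fun _ hh => hh.1)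
      (Nat.coprime_two_right.1 (Cfsg.Lib.Components.coprime_card_pPrimeCore 2))
    rw [h2] at h1
    exact (map_eq_bot_iff_of_injective _ e.injective).1 h1
  let q : ↥N ⧸ Cfsg.pPrimeCore 2 ↥N ≃* G :=
    ((QuotientGroup.quotientMulEquivOfEq hK).trans QuotientGroup.quotientBot).trans e
  haveI := normalizer_solvable P
  rcases Cfsg.Agent.S4025.result (h 2 Nat.prime_two) P n hn hel hcard N hN
    (Group.isSolvable_of_surjective (QuotientGroup.mk'_surjective (Cfsg.pPrimeCore 2 ↥N))) with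
    ⟨-, -, h3⟩ | ⟨-, -, ⟨f⟩⟩
  · rcases h3 rfl with ⟨⟨f⟩⟩ | ⟨⟨f⟩⟩
    · exact Or.inr (Or.inl ⟨q.symm.trans f⟩)
    · exact Or.inl ⟨q.symm.trans f⟩
  · exact Or.inr (Or.inr ⟨q.symm.trans f⟩)

/-- Without normal 2-subgroups the group is almost simple over an odd index. -/
theorem PEqConj.socle (h : PEqConj G) (hO : GenDihedral.NoOdd G) (hnt : GenDihedral.NoTwo G) (P : Sylow 2 G)
    (hel : Cfsg.IsElementaryAbelian 2 (P : Subgroup G)) (h8 : 8 ≤ Nat.card ↥(P : Subgroup G)) :
    ∃ M : Subgroup G, M.Normal ∧ IsSimpleGroup ↥M ∧ ¬ IsMulCommutative ↥M ∧ (P : Subgroup G) ≤ M ∧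
      centralizer (M : Set G) = ⊥ := by
  haveI : Fact (Nat.Prime 2) := ⟨Nat.prime_two⟩
  haveI : Nontrivial G := by
    by_contra hs
    haveI := not_nontrivial_iff_subsingleton.1 hs
    have := Nat.card_le_card_of_injective _ (P : Subgroup G).subtype_injective
    rw [Nat.card_unique (α := G)] at this
    omega
  obtain ⟨M, -, hMn, hMb, hmin⟩ :=
    Cfsg.Lib.Coprime.exists_minimal_normal (K := (⊤ : Subgroup G)) inferInstance top_ne_bot
  haveI := hMn
  have hMs : ¬ Group.IsSolvable ↥M := fun hh => hMb (GenDihedral.rad_bot hO hnt hMn hh)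
  have hMab : ¬ IsMulCommutative ↥M := fun hh => hMs (Group.isSolvable_of_comm fun a b => hh.is_comm.comm a b)
  have heven : 2 ∣ Nat.card ↥M := by
    by_contra h2
    exact hMb (hO M hMn (Nat.not_even_iff_odd.1 fun he => h2 he.two_dvd))
  obtain ⟨x₀, hx₀, hx₀2⟩ := exists_involution heven
  have hPM := sylow_le_of_normal h hel hx₀ hx₀2
  -- no normal 2-subgroups in the socle
  have hcore : Cfsg.pCore 2 ↥M = ⊥ := by
    haveI : (Cfsg.pCore 2 ↥M).Characteristic :=
      characteristic_iff_map_eq.2 fun φ => Cfsg.Lib.Components.pCore_map_equiv (p := 2) φ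
    have hp := (Cfsg.Lib.Components.pCore_normal_and_isPGroup (G := ↥M) 2).2
    have hb := GenDihedral.rad_bot hO hnt (L := (Cfsg.pCore 2 ↥M).map M.subtype) inferInstance
      (GenDihedral.solvable_of_two (hp.map _))
    exact (map_eq_bot_iff_of_injective _ M.subtype_injective).1 hb
  have hOM : GenDihedral.NoOdd ↥M := GenDihedral.noOdd_sub hO M
  haveI : Nontrivial ↥M := (nontrivial_iff_ne_bot M).2 hMb
  obtain ⟨S, -, hSn, hSb, hSmin⟩ :=
    Cfsg.Lib.Coprime.exists_minimal_normal (K := (⊤ : Subgroup ↥M)) inferInstance top_ne_bot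
  -- a second minimal normal subgroup of the socle does not exist
  have huniq : ∀ T : Subgroup ↥M, T.Normal → T ≠ ⊥ → S ≤ T := by
    intro T hTn hTb
    by_contra hST
    have hdis : Disjoint S T := by
      haveI := hSn
      haveI := hTn
      exact disjoint_iff.2 ((hSmin (S ⊓ T) inferInstance inf_le_left).resolve_right fun e => hST (inf_eq_left.1 e))
    have hev : ∀ U : Subgroup ↥M, U.Normal → U ≠ ⊥ → ∃ x ∈ U, orderOf x = 2 := fun U hU hUb =>
      exists_involution (by
        by_contra h2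
        exact hUb (hOM U hU (Nat.not_even_iff_odd.1 fun he => h2 he.two_dvd)))
    obtain ⟨x, hx, hx2⟩ := hev S hSn hSb
    obtain ⟨y, hy, hy2⟩ := hev T hTn hTb
    have hxy : Commute x y := commute_of_normal_of_disjoint S T hSn hTn hdis x y hx hy
    have hx1 : x ≠ 1 := fun e => by rw [e, orderOf_one] at hx2; omega
    have hne : x * y ≠ 1 := fun e => hx1 (disjoint_def.1 hdis hx ((eq_inv_of_mul_eq_one_left e) ▸ inv_mem hy))
    have hsq : ∀ z : ↥M, orderOf z = 2 → z * z = 1 := fun z hz => by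
      have h0 := pow_orderOf_eq_one z
      rwa [hz, pow_two] at h0
    have hxy2 : orderOf (x * y) = 2 :=
      orderOf_eq_prime (by rw [hxy.mul_pow, pow_two, pow_two, hsq x hx2, hsq y hy2, one_mul]) hne
    obtain ⟨g, hg⟩ := h.involutions (x := (x : G)) (y := ((x * y : ↥M) : G))
      (by rw [Subgroup.orderOf_coe]; exact hx2) (by rw [Subgroup.orderOf_coe]; exact hxy2)
    set φ : MulAut ↥M := MulAut.conjNormal g with hφ
    set S' := S.map φ.toMonoidHom with hS'
    have hxyS' : x * y ∈ S' := ⟨x, hx, Subtype.ext ((MulAut.conjNormal_apply g x).trans hg)⟩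
    haveI : S'.Normal := hSn.map _ φ.surjective
    by_cases hSS : S ≤ S'
    · have heq : S = S' := eq_of_le_of_card_ge hSS (le_of_eq (card_map_of_injective φ.injective))
      have hyS : y ∈ S := by
        rw [← heq] at hxyS'
        exact (S.mul_mem_cancel_left hx).1 hxyS'
      rw [disjoint_def.1 hdis hyS hy, orderOf_one] at hy2
      omega
    have hdis' : Disjoint S S' := by
      haveI := hSn
      exact disjoint_iff.2
        ((hSmin (S ⊓ S') inferInstance inf_le_left).resolve_right fun e => hSS (inf_eq_left.1 e))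
    have hcen : ∀ s ∈ S, Commute s x := fun s hs => by
      have h1 := commute_of_normal_of_disjoint S S' hSn inferInstance hdis' s (x * y) hs hxyS'
      have h2 := commute_of_normal_of_disjoint S T hSn hTn hdis s y hs hy
      simpa using h1.mul_right h2.inv_right
    -- the central involutions of `S` form a normal 2-subgroup
    let A : Subgroup ↥M :=
      { carrier := {z | z ∈ S ∧ (∀ s ∈ S, Commute s z) ∧ z * z = 1}
        one_mem' := ⟨one_mem _, fun s _ => Commute.one_right s, one_mul 1⟩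
        mul_mem' := by
          rintro a b ⟨ha, ha', ha''⟩ ⟨hb, hb', hb''⟩
          refine ⟨mul_mem ha hb, fun s hs => (ha' s hs).mul_right (hb' s hs), ?_⟩
          rw [← pow_two, (hb' a ha).mul_pow, pow_two, pow_two, ha'', hb'', one_mul]
        inv_mem' := by
          rintro a ⟨ha, ha', ha''⟩
          exact ⟨inv_mem ha, fun s hs => (ha' s hs).inv_right, by rw [← mul_inv_rev, ha'', inv_one]⟩ }
    haveI : A.Normal := ⟨fun z ⟨hz, hz', hz''⟩ m => ⟨hSn.conj_mem z hz m, fun s hs => by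
      have h1 := (hz' _ (hSn.conj_mem s hs m⁻¹)).map (MulAut.conj m).toMonoidHom
      simpa [mul_assoc] using h1, by
      rw [show m * z * m⁻¹ * (m * z * m⁻¹) = m * (z * z) * m⁻¹ by group, hz'', mul_one, mul_inv_cancel]⟩⟩
    have hA2 : IsPGroup 2 ↥A := fun a => ⟨1, Subtype.ext (by simp [pow_two, a.2.2.2])⟩
    have hxA : x ∈ A := ⟨hx, hcen, hsq x hx2⟩
    exact hx1 (mem_bot.1 (hcore ▸ Cfsg.Lib.Components.le_pCore hA2 hxA))
  have hStop : S = ⊤ := by
    have hle : ∀ g : G, S ≤ S.map (MulAut.conjNormal g : MulAut ↥M).toMonoidHom := fun g =>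
      huniq _ (hSn.map _ (MulAut.conjNormal g : MulAut ↥M).surjective) fun e =>
        hSb ((map_eq_bot_iff_of_injective _ (MulAut.conjNormal g : MulAut ↥M).injective).1 e)
    have hn : (S.map M.subtype).Normal := ⟨by
      rintro _ ⟨s, hs, rfl⟩ g
      obtain ⟨s', hs', e⟩ := hle g⁻¹ hs
      refine ⟨s', hs', ?_⟩
      have e' : g⁻¹ * (s' : G) * g⁻¹⁻¹ = (s : G) := (MulAut.conjNormal_apply g⁻¹ s').symm.trans (congrArg Subtype.val e)
      show (s' : G) = g * (s : G) * g⁻¹
      rw [← e']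
      group⟩
    have he := (hmin _ hn (map_subtype_le _)).resolve_left fun e =>
      hSb ((map_eq_bot_iff_of_injective _ M.subtype_injective).1 e)
    exact eq_top_iff.2 fun m _ => (mem_map_iff_mem M.subtype_injective).1 (he.symm ▸ m.2)
  have hsimple : IsSimpleGroup ↥M :=
    ⟨fun T hT => or_iff_not_imp_left.2 fun hTb => top_le_iff.1 (hStop ▸ huniq T hT hTb)⟩
  refine ⟨M, hMn, hsimple, hMab, hPM, hO _ inferInstance (Nat.not_even_iff_odd.1 fun he => ?_)⟩
  obtain ⟨c, hc, hc2⟩ := exists_involution he.two_dvd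
  have hcM : c ∈ M := mem_of_involution h hx₀ hx₀2 hc2
  have hcz : (⟨c, hcM⟩ : ↥M) ∈ center ↥M :=
    mem_center_iff.2 fun m => Subtype.ext (mem_centralizer_iff.1 hc m m.2)
  rcases hsimple.eq_bot_or_eq_top_of_normal (center ↥M) inferInstance with hz | hz
  · rw [hz, mem_bot, Subtype.ext_iff] at hcz
    rw [show c = 1 from hcz, orderOf_one] at hc2
    omega
  · exact hMab ⟨⟨fun a b => mem_center_iff.1 (hz ▸ mem_top b : b ∈ center ↥M) a⟩⟩

end Cfsg.Lib.EqualOrder
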