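import Mathlib
import Cfsg.Prelude.Def_CaseTheorems
import Cfsg.Agent.GenDihedral.Red.Tools
import Cfsg.Agent.Components.PComponents

/-!
Groups in which subgroups of equal order are conjugate: first reductions.
-/

set_option autoImplicit false
set_option linter.unusedSectionVars false
set_option linter.style.haveILetI false

namespace Cfsg.Lib.EqualOrder

open Subgroup

universe u

/-- Subgroups of equal order are conjugate. -/
def EqConj (G : Type u) [Group G] : Prop :=
  ∀ H K : Subgroup G, Nat.card H = Nat.card K → ∃ g : G, K = H.map (MulAut.conj g).toMonoidHom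

/-- `p`-subgroups of equal order are conjugate, for every prime `p`. -/
def PEqConj (G : Type u) [Group G] : Prop :=
  ∀ p : ℕ, p.Prime → ∀ H K : Subgroup G, IsPGroup p H → IsPGroup p K → Nat.card H = Nat.card K →
    ∃ g : G, K = H.map (MulAut.conj g).toMonoidHom

variable {G : Type u} [Group G]

theorem EqConj.toP (h : EqConj G) : PEqConj G := fun _ _ H K _ _ e => h H K e

theorem map_mk_conj (N : Subgroup G) [N.Normal] (H : Subgroup G) (g : G) :
    (H.map (MulAut.conj g).toMonoidHom).map (QuotientGroup.mk' N) =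
      (H.map (QuotientGroup.mk' N)).map (MulAut.conj (QuotientGroup.mk' N g)).toMonoidHom := by
  rw [Subgroup.map_map, Subgroup.map_map]
  congr 1

theorem card_comap_mk [Finite G] (N : Subgroup G) [N.Normal] (H : Subgroup (G ⧸ N)) :
    Nat.card (H.comap (QuotientGroup.mk' N)) = Nat.card H * Nat.card N := by
  set q := QuotientGroup.mk' N with hq
  have hs : Function.Surjective q := QuotientGroup.mk'_surjective N
  have h1 := (H.comap q).card_mul_index
  rw [index_comap_of_surjective H hs, Subgroup.card_eq_card_quotient_mul_card_subgroup N] at h1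
  have h2 := H.card_mul_index
  rw [← h2, mul_assoc, mul_comm H.index, ← mul_assoc] at h1
  exact Nat.eq_of_mul_eq_mul_right (Nat.pos_of_ne_zero index_ne_zero_of_finite) h1

theorem EqConj.quotient [Finite G] (h : EqConj G) (N : Subgroup G) [N.Normal] : EqConj (G ⧸ N) := by
  intro H K e
  obtain ⟨g, hg⟩ := h (H.comap (QuotientGroup.mk' N)) (K.comap (QuotientGroup.mk' N))
    (by rw [card_comap_mk, card_comap_mk, e])
  refine ⟨QuotientGroup.mk' N g, ?_⟩
  have := congrArg (Subgroup.map (QuotientGroup.mk' N)) hg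
  rwa [map_mk_conj, map_comap_eq_self_of_surjective (QuotientGroup.mk'_surjective N),
    map_comap_eq_self_of_surjective (QuotientGroup.mk'_surjective N)] at this

/-- A `p`-subgroup of a quotient is the image of one of the group. -/
theorem exists_lift [Finite G] {p : ℕ} [Fact p.Prime] (N : Subgroup G) [N.Normal] {H : Subgroup (G ⧸ N)}
    (hH : IsPGroup p H) :
    ∃ A : Subgroup G, IsPGroup p A ∧ A.map (QuotientGroup.mk' N) = H ∧
      Nat.card A = p ^ (Nat.card H * Nat.card N).factorization p := by
  set q := QuotientGroup.mk' N with hq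
  set f : H.comap q →* H := q.subgroupComap H with hf
  have hfs : Function.Surjective f := q.subgroupComap_surjective_of_surjective H (QuotientGroup.mk'_surjective N)
  obtain ⟨S⟩ := (inferInstance : Nonempty (Sylow p ↥(H.comap q)))
  refine ⟨(S : Subgroup ↥(H.comap q)).map (H.comap q).subtype, S.2.map _, ?_, ?_⟩
  · have htop : ((S.mapSurjective hfs : Sylow p H) : Subgroup H) = ⊤ :=
      ((S.mapSurjective hfs).3 (hH.of_injective (⊤ : Subgroup H).subtype Subtype.val_injective) le_top).symm
    have h1 : ((S : Subgroup ↥(H.comap q)).map f) = ⊤ := htop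
    rw [Subgroup.map_map]
    have h2 : q.comp (H.comap q).subtype = H.subtype.comp f := rfl
    rw [h2, ← Subgroup.map_map, h1, ← MonoidHom.range_eq_map, Subgroup.range_subtype]
  · rw [card_map_of_injective (H.comap q).subtype_injective, Sylow.card_eq_multiplicity, card_comap_mk]

theorem PEqConj.quotient [Finite G] (h : PEqConj G) (N : Subgroup G) [N.Normal] : PEqConj (G ⧸ N) := by
  intro p hp H K hH hK e
  haveI := Fact.mk hp
  obtain ⟨A, hA, hAH, hAc⟩ := exists_lift N hH
  obtain ⟨B, hB, hBK, hBc⟩ := exists_lift N hK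
  obtain ⟨g, hg⟩ := h p hp A B hA hB (by rw [hAc, hBc, e])
  refine ⟨QuotientGroup.mk' N g, ?_⟩
  rw [← hBK, hg, map_mk_conj, hAH]

/-- The odd core vanishes in the quotient by it. -/
theorem noOdd_quotient [Finite G] : GenDihedral.NoOdd (G ⧸ Cfsg.oddCore G) := by
  intro M hM ho
  have h1 := Cfsg.Lib.Components.pPrimeCore_quotient_eq_bot (G := G) (p := 2)
  exact le_bot_iff.1 ((@Cfsg.Lib.Components.le_pPrimeCore _ _ 2 M hM (Nat.coprime_two_right.2 ho)).trans h1.le)

theorem PEqConj.involutions [Finite G] (h : PEqConj G) {x y : G} (hx : orderOf x = 2) (hy : orderOf y = 2) :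
    ∃ g : G, g * x * g⁻¹ = y := by
  have hc : ∀ z : G, orderOf z = 2 → IsPGroup 2 (zpowers z) := fun z hz =>
    IsPGroup.of_card (n := 1) (by rw [Nat.card_zpowers, hz, pow_one])
  obtain ⟨g, hg⟩ := h 2 Nat.prime_two _ _ (hc x hx) (hc y hy) (by rw [Nat.card_zpowers, Nat.card_zpowers, hx, hy])
  refine ⟨g, ?_⟩
  obtain ⟨z, hz, e⟩ := hg.le (mem_zpowers y)
  obtain ⟨k, rfl⟩ := mem_zpowers_iff.1 hz
  rcases Int.even_or_odd k with ⟨m, hm⟩ | ⟨m, hm⟩
  · exfalso
    have h2 : x ^ k = 1 := by
      rw [← orderOf_dvd_iff_zpow_eq_one, hx]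
      exact ⟨m, by push_cast; omega⟩
    rw [h2] at e
    simp only [map_one] at e
    rw [← e, orderOf_one] at hy
    omega
  · have h2 : x ^ k = x := by
      have h3 : x ^ (2 * m) = 1 := by rw [← orderOf_dvd_iff_zpow_eq_one, hx]; exact ⟨m, rfl⟩
      rw [hm, zpow_add, h3, zpow_one, one_mul]
    rw [h2] at e
    simpa using e

/-- A cyclic Sylow 2-subgroup without odd core: the group is a cyclic 2-group. -/
theorem cyclic_shape [Finite G] (hO : GenDihedral.NoOdd G) (P : Sylow 2 G) (hP : IsCyclic ↥(P : Subgroup G)) :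
    IsCyclic G ∧ IsPGroup 2 G := by
  haveI : Fact (Nat.Prime 2) := ⟨Nat.prime_two⟩
  have htop : (P : Subgroup G) = ⊤ := by
    by_cases h2 : 2 ∣ Nat.card G
    · have hc := IsCyclic.isComplement' ((Nat.minFac_eq_two_iff _).2 h2) hP
      have hbot := hO (MonoidHom.transferSylow P
          (hP.normalizer_le_centralizer ((Nat.minFac_eq_two_iff _).2 h2))).ker inferInstance (by
        rw [← hc.index_eq_card]
        exact Nat.not_even_iff_odd.1 fun he => P.not_dvd_index he.two_dvd)
      rw [hbot] at hc
      exact Subgroup.isComplement'_bot_left.1 hc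
    · have := hO ⊤ inferInstance (by
        rw [card_top]; exact Nat.not_even_iff_odd.1 fun he => h2 he.two_dvd)
      haveI : Subsingleton G := Subgroup.subsingleton_iff.1 (subsingleton_of_bot_eq_top this.symm)
      exact Subsingleton.elim _ _
  exact ⟨isCyclic_of_surjective (P : Subgroup G).subtype fun g => ⟨⟨g, htop ▸ mem_top g⟩, rfl⟩,
    P.2.of_surjective (P : Subgroup G).subtype fun g => ⟨⟨g, htop ▸ mem_top g⟩, rfl⟩⟩

end Cfsg.Lib.EqualOrder
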