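import Cfsg.Agent.EqualOrder.Dihedral
import Cfsg.Agent.FourGroupGW.Main
import Cfsg.Agent.GWFour.Consumers.Reduce
import Cfsg.Agent.S0813
import Cfsg.Agent.Classical.Misc.SmallPSL

/-!
Sylow 2-subgroups of order four.
-/

set_option autoImplicit false
set_option linter.unusedSectionVars false
set_option linter.style.haveILetI false

namespace Cfsg.Lib.EqualOrder

open Subgroup

universe u

variable {G : Type u} [Group G] [Finite G]

theorem PEqConj.four_solvable (h : PEqConj G) (hO : GenDihedral.NoOdd G) (T : Sylow 2 G)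
    (hT : IsKleinFour ↥(T : Subgroup G)) (hs : Group.IsSolvable G) :
    Nonempty (G ≃* alternatingGroup (Fin 4)) := by
  classical
  refine (GWFour.solvable_shape T hT hO hs).resolve_left fun h4 => ?_
  haveI := hT
  have hT4 : Nat.card ↥(T : Subgroup G) = 4 := IsKleinFour.card_four
  have htop : (T : Subgroup G) = ⊤ := eq_top_of_card_eq _ (by rw [hT4, h4])
  haveI := Fintype.ofFinite ↥(T : Subgroup G)
  obtain ⟨a, b, c, ha, hb, hab⟩ : ∃ a b : ↥(T : Subgroup G), ∃ _c : Unit, a ≠ 1 ∧ b ≠ 1 ∧ a ≠ b := by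
    have h2 : 2 < Fintype.card ↥(T : Subgroup G) := by rw [← Nat.card_eq_fintype_card, hT4]; norm_num
    obtain ⟨x, y, z, hxy, hxz, hyz⟩ := Fintype.two_lt_card_iff.1 h2
    by_cases hx : x = 1
    · exact ⟨y, z, (), hx ▸ hxy.symm, hx ▸ hxz.symm, hyz⟩
    by_cases hy : y = 1
    · exact ⟨x, z, (), hx, hy ▸ hyz.symm, hxz⟩
    exact ⟨x, y, (), hx, hy, hxy⟩
  have hord : ∀ x : ↥(T : Subgroup G), x ≠ 1 → orderOf (x : G) = 2 := fun x hx => by
    rw [Subgroup.orderOf_coe]; exact orderOf_eq_prime (by rw [pow_two, IsKleinFour.mul_self]) hx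
  obtain ⟨g, hg⟩ := h.involutions (hord a ha) (hord b hb)
  apply hab
  have hc : g * (a : G) = (a : G) * g := by
    have := congrArg Subtype.val (mul_comm_of_exponent_two IsKleinFour.exponent_two (⟨g, htop ▸ mem_top g⟩ : ↥(T : Subgroup G)) a)
    exact this
  rw [hc, mul_inv_cancel_right] at hg
  exact Subtype.ext hg

/-- The data of the non-solvable case with Sylow 2-subgroups of order four. -/
theorem four_nonsolvable (hO : GenDihedral.NoOdd G) (T : Sylow 2 G)
    (hT : IsKleinFour ↥(T : Subgroup G)) (hns : ¬ Group.IsSolvable G) :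
    ∃ (L : Subgroup G) (_ : L.Normal) (F : Type) (_ : Field F) (_ : Fintype F),
      (Fintype.card F % 8 = 3 ∨ Fintype.card F % 8 = 5) ∧ 5 ≤ Fintype.card F ∧
      Odd L.index ∧ centralizer (L : Set G) = ⊥ ∧ (T : Subgroup G) ≤ L ∧
      Nonempty (↥L ≃* Matrix.ProjectiveSpecialLinearGroup (Fin 2) F) := by
  haveI : Fact (Nat.Prime 2) := ⟨Nat.prime_two⟩
  obtain ⟨L, hLn, hLs, -, hTL, hidx, hcen⟩ := GWFour.minimal_normal T hT hO hns
  haveI := hLs
  haveI := hT
  have e : ↥((T.subtype hTL : Sylow 2 ↥L) : Subgroup ↥L) ≃* ↥(T : Subgroup G) := subgroupOfEquivOfLe hTL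
  haveI hK : IsKleinFour ↥((T.subtype hTL : Sylow 2 ↥L) : Subgroup ↥L) :=
    ⟨by rw [Nat.card_congr e.toEquiv, IsKleinFour.card_four],
      by rw [Monoid.exponent_eq_of_mulEquiv e]; exact IsKleinFour.exponent_two⟩
  obtain ⟨F, iF, iF', h8, h5, hiso⟩ := Cfsg.Lib.GW.fourGroupProp (↥L) (T.subtype hTL) hK
  exact ⟨L, hLn, F, iF, iF', h8, h5, hidx, hcen, hTL, hiso⟩

theorem conjNormal_injective {L : Subgroup G} [L.Normal] (hcen : centralizer (L : Set G) = ⊥) :
    Function.Injective (MulAut.conjNormal : G →* MulAut ↥L) := by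
  refine (MonoidHom.ker_eq_bot_iff _).1 (eq_bot_iff.2 fun g hg => hcen ▸ ?_)
  refine mem_centralizer_iff.2 fun x hx => ?_
  have := congrArg Subtype.val (DFunLike.congr_fun (MonoidHom.mem_ker.1 hg) (⟨x, hx⟩ : ↥L))
  rw [MulAut.conjNormal_apply, MulAut.one_apply] at this
  exact (mul_inv_eq_iff_eq_mul.1 this).symm

theorem card_dvd_aut {L : Subgroup G} [L.Normal] (hcen : centralizer (L : Set G) = ⊥) {A : Type*} [Group A]
    [Finite A] (e : ↥L ≃* A) : Nat.card G ∣ Nat.card (MulAut A) :=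
  card_dvd_of_injective ((MulAut.congr e).toMonoidHom.comp (MulAut.conjNormal : G →* MulAut ↥L))
    ((MulAut.congr e).injective.comp (conjNormal_injective hcen))

theorem EqConj.four_nonsolvable (h : EqConj G) (hO : GenDihedral.NoOdd G) (T : Sylow 2 G)
    (hT : IsKleinFour ↥(T : Subgroup G)) (hns : ¬ Group.IsSolvable G) :
    ∃ (F : Type) (_ : Field F) (_ : Fintype F), Fintype.card F = 5 ∧
      Nonempty (G ≃* Matrix.ProjectiveSpecialLinearGroup (Fin 2) F) := by
  obtain ⟨L, hLn, F, iF, iF', h8, h5, hidx, hcen, -, ⟨e⟩⟩ := EqualOrder.four_nonsolvable hO T hT hns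
  haveI := hLn
  have hF : Fintype.card F = 5 :=
    h.psl_five h8 h5 (L.subtype.comp e.symm.toMonoidHom) (L.subtype_injective.comp e.symm.injective)
  haveI : Fact (Nat.Prime 5) := ⟨by norm_num⟩
  have ha : Nat.card (MulAut (Matrix.ProjectiveSpecialLinearGroup (Fin 2) F)) = 5 * (5 ^ 2 - 1) := by
    rw [Cfsg.Agent.S0813.result 5 1 le_rfl (by rw [hF, pow_one]) 2 le_rfl (fun _ => by norm_num),
      if_pos rfl, one_mul, one_mul, Cfsg.Lib.Classical.card_PGL, Cfsg.Lib.Classical.SLTwoTori.card_SL2, hF]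
  have hL : Nat.card ↥L = 60 := by
    have := Cfsg.Lib.Classical.SmallPSL.card_psl hF
    rw [Nat.card_congr e.toEquiv]
    norm_num at this
    omega
  have hd : 60 * L.index ∣ 60 * 2 := by
    have := card_dvd_aut hcen e
    rw [ha, ← L.card_mul_index, hL] at this
    norm_num at this ⊢
    exact this
  have hi : L.index = 1 := by
    rcases (Nat.dvd_prime Nat.prime_two).1 (Nat.dvd_of_mul_dvd_mul_left (by norm_num) hd) with h1 | h1
    · exact h1
    · exact absurd (h1 ▸ hidx) (by decide)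
  exact ⟨F, iF, iF', hF, ⟨(Subgroup.topEquiv.symm.trans (MulEquiv.subgroupCongr (index_eq_one.1 hi).symm)).trans e⟩⟩

end Cfsg.Lib.EqualOrder
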