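import Cfsg.Agent.EqualOrder.Socle
import Cfsg.Agent.EqualOrder.Four
import Cfsg.Agent.S4020
import Cfsg.Agent.S0813
import Cfsg.Agent.Classical.Misc.PSLTori
import Cfsg.Agent.PrimePowerOrders.Arith

/-!
Binary linear fractional socles.
-/

set_option autoImplicit false
set_option linter.unusedSectionVars false
set_option linter.style.haveILetI false

namespace Cfsg.Lib.EqualOrder

open Subgroup
open scoped Pointwise

universe u

/-- An element of order seven in the semiaffine and in the affine group over eight elements. -/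
theorem seven_dvd_affine : 7 ∣ Nat.card (Cfsg.affineGroup (GaloisField 2 3)) ∧
    7 ∣ Nat.card (Cfsg.semiaffineGroup (GaloisField 2 3)) := by
  classical
  haveI : Fact (Nat.Prime 2) := ⟨Nat.prime_two⟩
  haveI : Fact (Nat.Prime 7) := ⟨by norm_num⟩
  haveI := Fintype.ofFinite (GaloisField 2 3)
  have hc : Nat.card (GaloisField 2 3) = 8 := by rw [GaloisField.card 2 3 (by norm_num)]; norm_num
  have hu : Nat.card (GaloisField 2 3)ˣ = 7 := by rw [Nat.card_units, hc]
  obtain ⟨a, ha⟩ := exists_prime_orderOf_dvd_card' (G := (GaloisField 2 3)ˣ) 7 (by rw [hu])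
  let σ : Equiv.Perm (GaloisField 2 3) := MulAction.toPerm a
  have h1 : σ ∈ Cfsg.affineGroup (GaloisField 2 3) := ⟨a, 0, fun x => by rw [add_zero]; rfl⟩
  have h2 : σ ∈ Cfsg.semiaffineGroup (GaloisField 2 3) := ⟨a, 0, RingEquiv.refl _, fun x => by rw [add_zero]; rfl⟩
  have hσ : orderOf σ = 7 := by
    have hinj : Function.Injective (MulAction.toPermHom (GaloisField 2 3)ˣ (GaloisField 2 3)) := fun x y e =>
      Units.ext (by simpa [Units.smul_def] using Equiv.congr_fun e (1 : GaloisField 2 3))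
    rw [show σ = MulAction.toPermHom (GaloisField 2 3)ˣ (GaloisField 2 3) a from rfl, orderOf_injective _ hinj, ha]
  exact ⟨hσ ▸ orderOf_dvd_natCard _ h1, hσ ▸ orderOf_dvd_natCard _ h2⟩

theorem five_dvd_semiaffine : 5 ∣ Nat.card (Cfsg.semiaffineGroup (GaloisField 2 5)) := by
  classical
  haveI : Fact (Nat.Prime 2) := ⟨Nat.prime_two⟩
  haveI : Fact (Nat.Prime 5) := ⟨by norm_num⟩
  haveI := Fintype.ofFinite (GaloisField 2 5)
  have hc : Fintype.card (GaloisField 2 5) = 32 := by
    rw [← Nat.card_eq_fintype_card, GaloisField.card 2 5 (by norm_num)]; norm_num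
  let φ : GaloisField 2 5 ≃+* GaloisField 2 5 := frobeniusEquiv (GaloisField 2 5) 2
  have hmem : φ.toEquiv ∈ Cfsg.semiaffineGroup (GaloisField 2 5) := ⟨1, 0, φ, fun x => by simp⟩
  have hap : ∀ x : GaloisField 2 5, φ.toEquiv x = x ^ 2 := fun x => frobeniusEquiv_apply _ _ x
  have hit : ∀ (k : ℕ) (x : GaloisField 2 5), (φ.toEquiv ^ k) x = x ^ 2 ^ k := by
    intro k
    induction k with
    | zero => intro x; simp
    | succ k ih => intro x; rw [pow_succ', Equiv.Perm.mul_apply, ih, hap, ← pow_mul, pow_succ]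
  have hσ : orderOf (φ.toEquiv : Equiv.Perm (GaloisField 2 5)) = 5 := by
    refine orderOf_eq_prime (Equiv.ext fun x => ?_) fun e => ?_
    · rw [hit, Equiv.Perm.one_apply, show (2 : ℕ) ^ 5 = Fintype.card (GaloisField 2 5) by rw [hc]; norm_num,
        FiniteField.pow_card]
    · have hsq : ∀ x : GaloisField 2 5, x = 0 ∨ x = 1 := fun x => by
        have h := Equiv.congr_fun e x
        rw [hap, Equiv.Perm.one_apply, pow_two] at h
        by_cases hx : x = 0
        · exact Or.inl hx
        · exact Or.inr (mul_left_eq_self₀.1 h |>.resolve_right hx)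
      have hle : (Finset.univ : Finset (GaloisField 2 5)) ⊆ {0, 1} := fun x _ => by
        rcases hsq x with rfl | rfl <;> simp
      have := (Finset.card_le_card hle).trans Finset.card_le_two
      rw [Finset.card_univ, hc] at this
      omega
  have h := orderOf_dvd_natCard _ hmem
  rwa [hσ] at h

/-- A permutation of fewer than 27 points has no order 27. -/
theorem perm_order_ne {α : Type*} [Finite α] (h : Nat.card α < 27) (σ : Equiv.Perm α) : orderOf σ ≠ 27 := by
  classical
  haveI := Fintype.ofFinite α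
  intro ho
  have hd : σ.cycleType.lcm ∣ 9 := Multiset.lcm_dvd.2 fun c hc => by
    have h1 : c ∣ 3 ^ 3 := by rw [show (3 : ℕ) ^ 3 = 27 from rfl, ← ho]; exact Equiv.Perm.dvd_of_mem_cycleType hc
    have h2 : c < 27 := lt_of_le_of_lt ((Multiset.le_sum_of_mem hc).trans σ.sum_cycleType_le)
      (by rwa [← Nat.card_eq_fintype_card])
    obtain ⟨k, hk, rfl⟩ := (Nat.dvd_prime_pow Nat.prime_three).1 h1
    interval_cases k <;> first | omega | decide
  rw [Equiv.Perm.lcm_cycleType, ho] at hd
  norm_num at hd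

variable {G : Type u} [Group G] [Finite G]

/-- The permutation action on the Sylow 2-subgroups is faithful and small for `PSL(2, 8)`. -/
theorem no_order_twenty_seven (P : Sylow 2 G) (h8 : 8 ≤ Nat.card ↥(P : Subgroup G)) {M : Subgroup G} [M.Normal]
    (hs : IsSimpleGroup ↥M) (hab : ¬ IsMulCommutative ↥M) (hPM : (P : Subgroup G) ≤ M)
    (hcen : centralizer (M : Set G) = ⊥) (hM : Nat.card ↥M = 504) (hG : Nat.card G = 1512)
    (h7 : 7 ∣ Nat.card ↥(normalizer ((P : Subgroup G) : Set G))) (x : G) : orderOf x ≠ 27 := by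
  haveI : Fact (Nat.Prime 2) := ⟨Nat.prime_two⟩
  set N := normalizer ((P : Subgroup G) : Set G) with hN
  set φ : G →* Equiv.Perm (Sylow 2 G) := MulAction.toPermHom G (Sylow 2 G) with hφ
  have hP8 : 8 ∣ Nat.card ↥(P : Subgroup G) := P.pow_dvd_card_of_pow_dvd_card (n := 3) (by rw [hG]; norm_num)
  have h56 : 56 ∣ Nat.card ↥N :=
    Nat.Coprime.mul_dvd_of_dvd_of_dvd (by norm_num : Nat.Coprime 8 7)
      (hP8.trans (card_dvd_of_le le_normalizer)) h7
  have hn1 : Nat.card (Sylow 2 G) ∣ 27 := by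
    obtain ⟨c, hc⟩ := h56
    have hh := N.card_mul_index
    rw [hc, hG, mul_assoc] at hh
    rw [Sylow.card_eq_index_normalizer P]
    exact ⟨c, by rw [mul_comm]; exact (Nat.eq_of_mul_eq_mul_left (by norm_num : 0 < 56) (hh.trans (by norm_num : 1512 = 56 * 27))).symm⟩
  have hall : ∀ S : Sylow 2 G, S ∈ MulAction.orbit ↥M P := by
    intro S
    obtain ⟨g, rfl⟩ := MulAction.exists_smul_eq G P S
    have hSM : ((g • P : Sylow 2 G) : Subgroup G) ≤ M := by
      rw [Sylow.coe_subgroup_smul]
      rintro _ ⟨y, hy, rfl⟩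
      exact ‹M.Normal›.conj_mem y (hPM hy) g
    obtain ⟨m, hm⟩ := MulAction.exists_smul_eq ↥M (P.subtype hPM) ((g • P).subtype hSM)
    rw [Sylow.smul_subtype] at hm
    exact ⟨m, Sylow.subtype_injective hm⟩
  have hn2 : Nat.card (Sylow 2 G) ∣ 504 := by
    have h1 : (MulAction.orbit ↥M P) = Set.univ := Set.eq_univ_of_forall hall
    have h2 := index_dvd_card (MulAction.stabilizer ↥M P)
    rw [MulAction.index_stabilizer, h1, Set.ncard_univ, hM] at h2
    exact h2
  have hsmall : Nat.card (Sylow 2 G) < 27 := by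
    have h := Nat.dvd_gcd hn1 hn2
    norm_num at h
    exact lt_of_le_of_lt (Nat.le_of_dvd (by norm_num) h) (by norm_num)
  have hinj : Function.Injective φ := by
    refine (MonoidHom.ker_eq_bot_iff φ).1 (eq_bot_iff.2 fun k hk => hcen ▸ ?_)
    haveI := hs
    have hdis : Disjoint φ.ker M := by
      rcases hs.eq_bot_or_eq_top_of_normal (φ.ker.subgroupOf M) inferInstance with hb | hb
      · exact subgroupOf_eq_bot.1 hb
      · exfalso
        rw [subgroupOf_eq_top] at hb
        have hMN : M ≤ N := fun m hm => by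
          have := Equiv.congr_fun (MonoidHom.mem_ker.1 (hb hm)) P
          exact Sylow.smul_eq_iff_mem_normalizer.1 this
        haveI : ((P : Subgroup G).subgroupOf M).Normal :=
          normal_subgroupOf_of_le_normalizer hMN
        rcases hs.eq_bot_or_eq_top_of_normal ((P : Subgroup G).subgroupOf M) inferInstance with hb' | hb'
        · rw [subgroupOf_eq_bot] at hb'
          rw [hb'.eq_bot_of_le hPM, card_bot] at h8
          omega
        · rw [subgroupOf_eq_top] at hb'
          have h1 := card_dvd_of_le hb'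
          rw [hM] at h1
          obtain ⟨j, hj⟩ := IsPGroup.iff_card.1 P.2
          rw [hj] at h1
          exact absurd (Nat.Prime.dvd_of_dvd_pow (by norm_num : Nat.Prime 7) ((show 7 ∣ 504 by norm_num).trans h1))
            (by norm_num)
    refine mem_centralizer_iff.2 fun m hm => ?_
    exact (commute_of_normal_of_disjoint φ.ker M inferInstance inferInstance hdis k m hk hm).eq.symm
  intro hx
  exact perm_order_ne hsmall (φ x) (by rw [orderOf_injective φ hinj, hx])

theorem card_pow_two_of_binary {M : Subgroup G} (P : Sylow 2 G) (hPM : (P : Subgroup G) ≤ M) {n m : ℕ}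
    (hn : Nat.card ↥(P : Subgroup G) = 2 ^ n) (hM : Nat.card ↥M = 2 ^ m * ((2 ^ m) ^ 2 - 1)) (hm : 1 ≤ m) :
    n = m := by
  haveI : Fact (Nat.Prime 2) := ⟨Nat.prime_two⟩
  have hodd : ∀ k, Nat.Coprime (2 ^ k) ((2 ^ m) ^ 2 - 1) := fun k => by
    refine Nat.Coprime.pow_left k ((Nat.prime_two.coprime_iff_not_dvd).2 fun hd => ?_)
    have h2 : 2 ∣ (2 ^ m) ^ 2 := dvd_pow (dvd_pow_self 2 (by omega)) two_ne_zero
    have := Nat.one_le_pow 2 (2 ^ m) (Nat.two_pow_pos m)
    omega
  refine Nat.pow_right_injective le_rfl (Nat.dvd_antisymm ?_ ?_)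
  · have h := card_dvd_of_le hPM
    rw [hn, hM] at h
    exact (hodd n).dvd_of_dvd_mul_right h
  · show 2 ^ m ∣ 2 ^ n
    rw [← hn]
    exact P.pow_dvd_card_of_pow_dvd_card ((hM ▸ dvd_mul_right _ _ : 2 ^ m ∣ Nat.card ↥M).trans (card_subgroup_dvd_card M))

/-- The binary case. -/
theorem PEqConj.binary (h : PEqConj G) (P : Sylow 2 G)
    (hel : Cfsg.IsElementaryAbelian 2 (P : Subgroup G)) (h8 : 8 ≤ Nat.card ↥(P : Subgroup G))
    {M : Subgroup G} [M.Normal] (hs : IsSimpleGroup ↥M) (hab : ¬ IsMulCommutative ↥M)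
    (hPM : (P : Subgroup G) ≤ M) (hcen : centralizer (M : Set G) = ⊥)
    {F : Type} [Field F] [Fintype F] {m : ℕ} (hm : 2 ≤ m) (hF : Fintype.card F = 2 ^ m)
    (e : ↥M ≃* Matrix.ProjectiveSpecialLinearGroup (Fin 2) F) :
    Nonempty (G ≃* Matrix.ProjectiveSpecialLinearGroup (Fin 2) (GaloisField 2 3)) ∨
    Nonempty (G ≃* MulAut (Matrix.ProjectiveSpecialLinearGroup (Fin 2) (GaloisField 2 5))) := by
  classical
  haveI : Fact (Nat.Prime 2) := ⟨Nat.prime_two⟩
  obtain ⟨n, hn, hcard⟩ := exists_exponent h8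
  have hgcd : Nat.gcd 2 (2 ^ m - 1) = 1 := by
    refine (Nat.prime_two.coprime_iff_not_dvd).2 fun hd => ?_
    have h2 : 2 ∣ 2 ^ m := dvd_pow_self 2 (by omega)
    have := Nat.one_le_two_pow (n := m)
    omega
  have hM : Nat.card ↥M = 2 ^ m * ((2 ^ m) ^ 2 - 1) := by
    have := Cfsg.Lib.Classical.SmallPSL.card_psl hF
    rw [hgcd, one_mul] at this
    rw [Nat.card_congr e.toEquiv, this]
  have hA : Nat.card (MulAut (Matrix.ProjectiveSpecialLinearGroup (Fin 2) F)) = m * Nat.card ↥M := by
    rw [Cfsg.Agent.S0813.result 2 m (by omega) hF 2 le_rfl (fun _ => le_trans (by norm_num) (Nat.pow_le_pow_right two_pos hm)),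
      if_pos rfl, one_mul, Cfsg.Lib.Classical.card_PGL, Cfsg.Lib.Classical.SLTwoTori.card_SL2, hF, hM]
  obtain rfl := card_pow_two_of_binary P hPM hcard hM (by omega)
  have hdvd : Nat.card G ∣ n * Nat.card ↥M := hA ▸ card_dvd_aut hcen e
  set N := normalizer ((P : Subgroup G) : Set G) with hN
  haveI := normalizer_solvable P
  haveI : Finite (GaloisField 2 3) := inferInstance
  haveI := Fintype.ofFinite (GaloisField 2 3)
  haveI := Fintype.ofFinite (GaloisField 2 5)
  rcases Cfsg.Agent.S4025.result (h 2 Nat.prime_two) P n hn hel hcard N hN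
    (Group.isSolvable_of_surjective (QuotientGroup.mk'_surjective (Cfsg.pPrimeCore 2 ↥N))) with
    ⟨rfl, -, h3⟩ | ⟨rfl, -, ⟨f⟩⟩
  · -- eight elements
    left
    norm_num at hM
    have h7 : 7 ∣ Nat.card ↥N := by
      refine Dvd.dvd.trans ?_ (card_quotient_dvd_card (Cfsg.pPrimeCore 2 ↥N))
      rcases h3 rfl with ⟨⟨f⟩⟩ | ⟨⟨f⟩⟩
      · rw [Nat.card_congr f.toEquiv]; exact seven_dvd_affine.2
      · rw [Nat.card_congr f.toEquiv]; exact seven_dvd_affine.1
    obtain ⟨ρ⟩ := Cfsg.Lib.PrimePowerOrders.psl_congr (F := F) (K := GaloisField 2 3) (by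
      rw [hF, ← Nat.card_eq_fintype_card, GaloisField.card 2 3 (by norm_num)])
    have hG : Nat.card G = 504 ∨ Nat.card G = 1512 := by
      have h1 := M.card_mul_index
      rw [hM] at h1 hdvd
      rw [← h1] at hdvd ⊢
      have : M.index ∣ 3 := Nat.dvd_of_mul_dvd_mul_left (by norm_num : 0 < 504) (by rw [mul_comm 504 3]; exact hdvd)
      rcases (Nat.dvd_prime Nat.prime_three).1 this with h' | h' <;> rw [h'] <;> norm_num
    rcases hG with hG | hG
    · exact ⟨((Subgroup.topEquiv.symm.trans (MulEquiv.subgroupCongr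
        (eq_top_of_card_eq M (hM.trans hG.symm)).symm)).trans e).trans ρ⟩
    exfalso
    haveI : Fact (Nat.Prime 3) := ⟨Nat.prime_three⟩
    obtain ⟨H, -, ⟨g⟩⟩ := Cfsg.Lib.Classical.PSLTori.exists_nonsplit (q := 8) (F := F) (by rw [hF]; norm_num) (by decide)
    have hr : ∃ y : G, orderOf y = 9 := by
      refine ⟨(M.subtype.comp (e.symm.toMonoidHom.comp (H.subtype.comp g.symm.toMonoidHom)))
        (DihedralGroup.r (1 : ZMod ((8 + 1) / Nat.gcd 2 (8 - 1)))), ?_⟩
      rw [orderOf_injective _ (fun a b hh => g.symm.injective (H.subtype_injective (e.symm.injective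
        (M.subtype_injective hh)))), DihedralGroup.orderOf_r_one]
      norm_num
    obtain ⟨y, hy⟩ := hr
    obtain ⟨R, hR⟩ := (IsPGroup.of_card (p := 3) (n := 2) (G := ↥(zpowers y))
      (by rw [Nat.card_zpowers, hy]; norm_num)).exists_le_sylow
    obtain ⟨k, hk⟩ := IsPGroup.iff_card.1 R.2
    rcases Cfsg.Agent.S4020.result h R with hc | hR' | ⟨⟨q⟩⟩
    · obtain ⟨⟨r, hrR⟩, hrgen⟩ := hc.exists_generator
      have hro : orderOf r = 27 := by
        have h1 : orderOf (⟨r, hrR⟩ : ↥(R : Subgroup G)) = Nat.card ↥(R : Subgroup G) :=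
          orderOf_eq_card_of_forall_mem_zpowers hrgen
        rw [Subgroup.orderOf_mk] at h1
        rw [h1]
        have h27 : 3 ^ 3 ∣ Nat.card ↥(R : Subgroup G) := R.pow_dvd_card_of_pow_dvd_card (by rw [hG]; norm_num)
        have hd := card_subgroup_dvd_card (R : Subgroup G)
        rw [hk] at h27 hd ⊢
        rw [hG] at hd
        have h3k := (Nat.pow_dvd_pow_iff_le_right (by norm_num : 1 < 3)).1 h27
        have hk4 : k < 4 := by
          by_contra hlt
          exact absurd ((pow_dvd_pow 3 (not_lt.1 hlt)).trans hd) (by norm_num)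
        rw [show k = 3 by omega]
        norm_num
      exact no_order_twenty_seven P h8 hs hab hPM hcen hM hG h7 r hro
    · have := orderOf_dvd_of_pow_eq_one (hR'.2 y (hR (mem_zpowers y)))
      rw [hy] at this
      norm_num at this
    · have hq := Nat.card_congr q.toEquiv
      rw [hk, Nat.card_eq_fintype_card (α := QuaternionGroup 2), QuaternionGroup.card] at hq
      rcases Nat.eq_zero_or_pos k with rfl | hk0
      · norm_num at hq
      · have : 3 ∣ 4 * 2 := hq ▸ dvd_pow_self 3 (by omega)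
        norm_num at this
  · -- thirty-two elements
    right
    norm_num at hM
    obtain ⟨ρ⟩ := Cfsg.Lib.PrimePowerOrders.psl_congr (F := F) (K := GaloisField 2 5) (by
      rw [hF, ← Nat.card_eq_fintype_card, GaloisField.card 2 5 (by norm_num)])
    have h5 : 5 ∣ Nat.card G := by
      refine Dvd.dvd.trans ?_ (card_subgroup_dvd_card N)
      refine Dvd.dvd.trans ?_ (card_quotient_dvd_card (Cfsg.pPrimeCore 2 ↥N))
      rw [Nat.card_congr f.toEquiv]; exact five_dvd_semiaffine
    have h1 := M.card_mul_index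
    rw [hM] at h1 hdvd
    have hi : M.index = 5 := by
      have : M.index ∣ 5 := Nat.dvd_of_mul_dvd_mul_left (by norm_num : 0 < 32736) (by rw [h1, mul_comm 32736 5]; exact hdvd)
      rcases (Nat.dvd_prime (by norm_num : Nat.Prime 5)).1 this with h' | h'
      · rw [h'] at h1; rw [← h1] at h5; norm_num at h5
      · exact h'
    set Φ := (MulAut.congr (e.trans ρ)).toMonoidHom.comp (MulAut.conjNormal : G →* MulAut ↥M) with hΦ
    have hΦi : Function.Injective Φ := (MulAut.congr (e.trans ρ)).injective.comp (conjNormal_injective hcen)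
    refine ⟨MulEquiv.ofBijective Φ ((Nat.bijective_iff_injective_and_card Φ).2 ⟨hΦi, ?_⟩)⟩
    rw [Nat.card_congr (MulAut.congr ρ).toEquiv.symm, hA, hM, ← h1, hi]

end Cfsg.Lib.EqualOrder
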