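import Cfsg.Agent.EqualOrder.Basic
import Cfsg.Agent.Classical.Misc.PSLTori

/-!
Dihedral subgroups contradict the conjugacy of subgroups of equal order.
-/

set_option autoImplicit false
set_option linter.unusedSectionVars false
set_option linter.style.haveILetI false

namespace Cfsg.Lib.EqualOrder

open Subgroup DihedralGroup

universe u

variable {G : Type u} [Group G] [Finite G]

/-- A cyclic and a non-commutative subgroup cannot have the same order. -/
theorem EqConj.comm (h : EqConj G) {A B : Subgroup G} (e : Nat.card A = Nat.card B)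
    (hA : ∀ x ∈ A, ∀ y ∈ A, x * y = y * x) : ∀ x ∈ B, ∀ y ∈ B, x * y = y * x := by
  obtain ⟨g, rfl⟩ := h A B e
  rintro _ ⟨x, hx, rfl⟩ _ ⟨y, hy, rfl⟩
  rw [← map_mul, ← map_mul, hA x hx y hy]

/-- The parity of an element of a dihedral group of twice even degree. -/
def parityVal (k : ℕ) : DihedralGroup (2 * k) → ZMod 2
  | r i => ZMod.castHom (dvd_mul_right 2 k) (ZMod 2) i
  | sr i => ZMod.castHom (dvd_mul_right 2 k) (ZMod 2) i

/-- The parity homomorphism. -/
def parity (k : ℕ) : DihedralGroup (2 * k) →* Multiplicative (ZMod 2) :=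
  MonoidHom.mk' (fun x => Multiplicative.ofAdd (parityVal k x)) fun x y => by
    rw [← ofAdd_add]
    congr 1
    rcases x with i | i <;> rcases y with j | j <;>
      simp only [parityVal, r_mul_r, r_mul_sr, sr_mul_r, sr_mul_sr, map_add, map_sub, CharTwo.sub_eq_add] <;> ring

theorem parity_apply (k : ℕ) (x : DihedralGroup (2 * k)) :
    parity k x = Multiplicative.ofAdd (parityVal k x) := rfl

theorem parity_ker_card (k : ℕ) [NeZero k] : Nat.card (parity k).ker = 2 * k := by
  haveI : NeZero (2 * k) := ⟨by have := NeZero.ne k; omega⟩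
  have hs : Function.Surjective (parity k) := by
    intro z
    refine ⟨r ((Multiplicative.toAdd z).val : ZMod (2 * k)), ?_⟩
    simp [parity_apply, parityVal]
  have h := (parity k).ker.card_mul_index
  rw [index_ker, MonoidHom.range_eq_top.2 hs, card_top, Nat.card_congr Multiplicative.toAdd, Nat.card_zmod,
    DihedralGroup.nat_card] at h
  omega

theorem EqConj.no_dihedral (h : EqConj G) {m : ℕ} (hm : Even m) (h6 : 6 ≤ m)
    (f : DihedralGroup m →* G) (hf : Function.Injective f) : False := by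
  obtain ⟨k, rfl⟩ : ∃ k, m = 2 * k := by obtain ⟨k, hk⟩ := hm; exact ⟨k, by omega⟩
  haveI : NeZero k := ⟨by omega⟩
  haveI : NeZero (2 * k) := ⟨by omega⟩
  have hA : ∀ x ∈ (zpowers (r (1 : ZMod (2 * k)))).map f, ∀ y ∈ (zpowers (r (1 : ZMod (2 * k)))).map f,
      x * y = y * x := by
    rintro _ ⟨x, hx, rfl⟩ _ ⟨y, hy, rfl⟩
    obtain ⟨a, rfl⟩ := mem_zpowers_iff.1 hx
    obtain ⟨b, rfl⟩ := mem_zpowers_iff.1 hy
    rw [← map_mul, ← map_mul, (Commute.zpow_zpow_self (r (1 : ZMod (2 * k))) a b).eq]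
  have hcard : Nat.card ((zpowers (r (1 : ZMod (2 * k)))).map f) = Nat.card ((parity k).ker.map f) := by
    rw [card_map_of_injective hf, card_map_of_injective hf, Nat.card_zpowers, orderOf_r_one, parity_ker_card]
  have h1 : r (2 : ZMod (2 * k)) ∈ (parity k).ker := by
    rw [MonoidHom.mem_ker, parity_apply, parityVal, map_ofNat]; rfl
  have h2 : sr (0 : ZMod (2 * k)) ∈ (parity k).ker := by
    rw [MonoidHom.mem_ker, parity_apply, parityVal, map_zero]; rfl
  have := h.comm hcard hA _ (mem_map_of_mem f h1) _ (mem_map_of_mem f h2)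
  rw [← map_mul, ← map_mul, r_mul_sr, sr_mul_r] at this
  have h3 := sr.inj (hf this)
  have h4 : ((4 : ℕ) : ZMod (2 * k)) = 0 := by
    push_cast
    linear_combination -h3
  rw [ZMod.natCast_eq_zero_iff] at h4
  have := Nat.le_of_dvd (by norm_num) h4
  omega

/-- Only `q = 5` survives among `PSL(2, q)`, `q ≡ 3, 5 (mod 8)`. -/
theorem EqConj.psl_five (h : EqConj G) {F : Type} [Field F] [Fintype F]
    (h8 : Fintype.card F % 8 = 3 ∨ Fintype.card F % 8 = 5) (h5 : 5 ≤ Fintype.card F)
    (f : Matrix.ProjectiveSpecialLinearGroup (Fin 2) F →* G) (hf : Function.Injective f) :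
    Fintype.card F = 5 := by
  obtain ⟨q, hq⟩ : ∃ q, Fintype.card F = q := ⟨_, rfl⟩
  rw [hq] at h8 h5 ⊢
  by_contra hne
  have key : ∀ m, Even m → 6 ≤ m → ∀ H : Subgroup (Matrix.ProjectiveSpecialLinearGroup (Fin 2) F),
      H ≃* DihedralGroup m → False := fun m hm h6 H e =>
    h.no_dihedral hm h6 ((f.comp H.subtype).comp e.symm.toMonoidHom)
      ((hf.comp H.subtype_injective).comp e.symm.injective)
  have hg : Nat.gcd 2 (q - 1) = 2 := Nat.gcd_eq_left (Nat.dvd_of_mod_eq_zero (by omega))
  rcases h8 with h3 | h3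
  · obtain ⟨H, -, ⟨e⟩⟩ := Cfsg.Lib.Classical.PSLTori.exists_nonsplit hq (by simp; omega)
    exact key _ (by rw [hg, Nat.even_iff]; omega) (by rw [hg]; omega) H e
  · obtain ⟨H, -, ⟨e⟩⟩ := Cfsg.Lib.Classical.PSLTori.exists_split hq (by simp; omega)
    exact key _ (by rw [hg, Nat.even_iff]; omega) (by rw [hg]; omega) H e

/-- An involution cannot centralise a symmetric group of degree three. -/
theorem EqConj.no_s_three_cent (h : EqConj G) {t : G} (ht : orderOf t = 2)
    (f : DihedralGroup 3 →* G) (hf : Function.Injective f) (hc : ∀ x, Commute t (f x)) : False := by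
  have h3 : orderOf (f (r 1)) = 3 := by rw [orderOf_injective f hf, orderOf_r_one]
  have h6 : orderOf (t * f (r 1)) = 6 := by
    rw [(hc _).orderOf_mul_eq_mul_orderOf_of_coprime (by rw [ht, h3]; norm_num), ht, h3]
  have hA : ∀ x ∈ zpowers (t * f (r 1)), ∀ y ∈ zpowers (t * f (r 1)), x * y = y * x := by
    intro x hx y hy
    obtain ⟨a, rfl⟩ := mem_zpowers_iff.1 hx
    obtain ⟨b, rfl⟩ := mem_zpowers_iff.1 hy
    exact (Commute.zpow_zpow_self _ a b).eq
  have := h.comm (B := f.range) (by
    rw [Nat.card_zpowers, h6, Nat.card_congr (MonoidHom.ofInjective hf).toEquiv.symm, DihedralGroup.nat_card])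
    hA _ ⟨r 1, rfl⟩ _ ⟨sr 0, rfl⟩
  rw [← map_mul, ← map_mul] at this
  exact absurd (hf this) (by decide)

end Cfsg.Lib.EqualOrder
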