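import Cfsg.Agent.EqualOrder.Four
import Cfsg.Agent.GWDihedral.Consumers.QGroup.Kernel

/-!
Quaternion Sylow 2-subgroups of order eight.
-/

set_option autoImplicit false
set_option linter.unusedSectionVars false
set_option linter.style.haveILetI false

namespace Cfsg.Lib.EqualOrder

open Subgroup

universe u

variable {G : Type u} [Group G] [Finite G]

theorem commuting_involutions_eq (T : Sylow 2 G) (e : ↥(T : Subgroup G) ≃* QuaternionGroup 2) {x y : G}
    (hx : orderOf x = 2) (hy : orderOf y = 2) (hc : Commute x y) : x = y := by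
  haveI : Fact (Nat.Prime 2) := ⟨Nat.prime_two⟩
  have hxp : IsPGroup 2 (zpowers x) := IsPGroup.of_card (n := 1) (by rw [Nat.card_zpowers, hx, pow_one])
  have hyp : IsPGroup 2 (zpowers y) := IsPGroup.of_card (n := 1) (by rw [Nat.card_zpowers, hy, pow_one])
  have hle : zpowers x ≤ normalizer (zpowers y : Set G) := le_trans (zpowers_le.2 (mem_centralizer_iff.2
    fun z hz => by
      obtain ⟨k, rfl⟩ := mem_zpowers_iff.1 hz
      exact (hc.symm.zpow_left k).eq)) (centralizer_le_normalizer _)
  obtain ⟨R, hR⟩ := (hxp.to_sup_of_normal_right' hyp hle).exists_le_sylow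
  obtain ⟨f⟩ : Nonempty (↥(R : Subgroup G) ≃* QuaternionGroup 2) := ⟨(Sylow.equiv R T).trans e⟩
  have key : ∀ a b : QuaternionGroup 2, a * a = 1 → b * b = 1 → a ≠ 1 → b ≠ 1 → a = b := by decide
  have hmem : ∀ z : G, z ∈ zpowers x ⊔ zpowers y → z ∈ (R : Subgroup G) := fun z hz => hR hz
  have hxR := hmem x (mem_sup_left (mem_zpowers x))
  have hyR := hmem y (mem_sup_right (mem_zpowers y))
  have hsq : ∀ (z : G) (hz : z ∈ (R : Subgroup G)), orderOf z = 2 →
      f ⟨z, hz⟩ * f ⟨z, hz⟩ = 1 ∧ f ⟨z, hz⟩ ≠ 1 := fun z hz ho => by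
    have h0 := pow_orderOf_eq_one z
    rw [ho, pow_two] at h0
    have h1 : (⟨z, hz⟩ : ↥(R : Subgroup G)) * ⟨z, hz⟩ = 1 := Subtype.ext h0
    refine ⟨by rw [← map_mul, h1, map_one], fun h => ?_⟩
    have h2 := congrArg Subtype.val (f.injective (h.trans (map_one f).symm))
    rw [show z = 1 from h2, orderOf_one] at ho
    omega
  exact congrArg Subtype.val (f.injective (key _ _ (hsq x hxR hx).1 (hsq y hyR hy).1 (hsq x hxR hx).2
    (hsq y hyR hy).2))

/-- Subgroups of even order contain the centre of order two. -/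
theorem center_le_of_even (T : Sylow 2 G) (e : ↥(T : Subgroup G) ≃* QuaternionGroup 2)
    (hZ : Nat.card (center G) = 2) {M : Subgroup G} (hM : 2 ∣ Nat.card ↥M) : center G ≤ M := by
  haveI : Fact (Nat.Prime 2) := ⟨Nat.prime_two⟩
  obtain ⟨⟨y, hyM⟩, hy⟩ := exists_prime_orderOf_dvd_card' (G := ↥M) 2 hM
  rw [Subgroup.orderOf_mk] at hy
  intro z hz
  by_cases h1 : z = 1
  · exact h1 ▸ one_mem M
  have hz2 : orderOf z = 2 := by
    have hd : orderOf z ∣ 2 := hZ ▸ orderOf_dvd_natCard _ hz
    rcases (Nat.dvd_prime Nat.prime_two).1 hd with h | h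
    · exact absurd (orderOf_eq_one_iff.1 h) h1
    · exact h
  rw [commuting_involutions_eq T e hz2 hy (mem_center_iff.1 hz y).symm]
  exact hyM

/-- The quotient by the centre. -/
theorem quat_quotient (hO : GenDihedral.NoOdd G) (T : Sylow 2 G) (e : ↥(T : Subgroup G) ≃* QuaternionGroup 2) :
    Nat.card (center G) = 2 ∧ GenDihedral.NoOdd (G ⧸ center G) ∧
      ∃ S : Sylow 2 (G ⧸ center G), IsKleinFour ↥(S : Subgroup (G ⧸ center G)) := by
  obtain ⟨hZ, hc, ⟨f⟩⟩ := GWD.quaternion_quot T 0 e hO
  refine ⟨hZ, fun M hM ho => ?_, T.mapSurjective (QuotientGroup.mk'_surjective (center G)), ?_⟩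
  · exact le_bot_iff.1 ((@Cfsg.Lib.Components.le_pPrimeCore _ _ 2 M hM (Nat.coprime_two_right.2 ho)).trans hc.le)
  · have h2 : IsKleinFour (DihedralGroup (2 ^ (0 + 1))) := inferInstanceAs (IsKleinFour (DihedralGroup 2))
    exact ⟨by rw [Nat.card_congr f.toEquiv]; exact IsKleinFour.card_four,
      by rw [Monoid.exponent_eq_of_mulEquiv f]; exact IsKleinFour.exponent_two⟩

theorem eight_dvd (T : Sylow 2 G) (e : ↥(T : Subgroup G) ≃* QuaternionGroup 2) : 8 ∣ Nat.card G := by
  have h := card_subgroup_dvd_card (T : Subgroup G)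
  rw [Nat.card_congr e.toEquiv, Nat.card_eq_fintype_card (α := QuaternionGroup 2), QuaternionGroup.card] at h
  exact h

theorem PEqConj.quat_solvable (h : PEqConj G) (hO : GenDihedral.NoOdd G) (T : Sylow 2 G)
    (e : ↥(T : Subgroup G) ≃* QuaternionGroup 2) (hs : Group.IsSolvable (G ⧸ center G)) :
    Nonempty (G ≃* Matrix.SpecialLinearGroup (Fin 2) (ZMod 3)) := by
  obtain ⟨hZ, hO', S, hS⟩ := quat_quotient hO T e
  obtain ⟨ψ⟩ := (h.quotient (center G)).four_solvable hO' S hS hs
  have hidx : ∀ M : Subgroup G, M.index ≠ 2 := by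
    intro M hM
    have h8 := eight_dvd T e
    have hc := M.card_mul_index
    rw [hM] at hc
    have hZM : center G ≤ M := center_le_of_even T e hZ (by omega)
    have hi : (M.map (QuotientGroup.mk' (center G))).index = M.index :=
      index_map_eq _ (QuotientGroup.mk'_surjective _) (by rw [QuotientGroup.ker_mk']; exact hZM)
    refine Cfsg.Lib.Classical.PSLTori.alt_four_no_six ψ (M.map (QuotientGroup.mk' (center G))) ?_
    obtain ⟨c, hc12⟩ : ∃ c, Nat.card (M.map (QuotientGroup.mk' (center G))) = c := ⟨_, rfl⟩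
    rw [hc12]
    have h12 := (M.map (QuotientGroup.mk' (center G))).card_mul_index
    rw [hi, hM, hc12, Nat.card_congr ψ.toEquiv, nat_card_alternatingGroup, Nat.card_fin] at h12
    norm_num [Nat.factorial] at h12
    omega
  have hs' : Group.IsSolvable G :=
    GenDihedral.solvable_ext (center G) (Group.isSolvable_of_comm fun a b =>
      Subtype.ext (mem_center_iff.1 b.2 a)) hs
  exact (GWD.quaternion_kernel_solvable hO hidx T 0 e hs').2.2.2

theorem slCongr {F K : Type} [Field F] [Field K] (ρ : F ≃+* K) :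
    Nonempty (Matrix.SpecialLinearGroup (Fin 2) F ≃* Matrix.SpecialLinearGroup (Fin 2) K) :=
  ⟨{ toFun := Matrix.SpecialLinearGroup.map ρ.toRingHom
     invFun := Matrix.SpecialLinearGroup.map ρ.symm.toRingHom
     left_inv := fun g => by ext i j; simp
     right_inv := fun g => by ext i j; simp
     map_mul' := map_mul _ }⟩

/-- A group with `PSL(2, q)` above the centre of order two is perfect, hence `SL(2, q)`. -/
theorem quat_psl (hO : GenDihedral.NoOdd G) (T : Sylow 2 G) (e : ↥(T : Subgroup G) ≃* QuaternionGroup 2)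
    {F : Type} [Field F] [Fintype F] (hodd : Odd (Fintype.card F)) (h5 : 5 ≤ Fintype.card F)
    (f : G ⧸ center G ≃* Matrix.ProjectiveSpecialLinearGroup (Fin 2) F) :
    Nonempty (G ≃* Matrix.SpecialLinearGroup (Fin 2) F) := by
  obtain ⟨hZ, -, -⟩ := quat_quotient hO T e
  haveI : IsSimpleGroup (Matrix.ProjectiveSpecialLinearGroup (Fin 2) F) :=
    Matrix.ProjectiveSpecialLinearGroup.rank_two_simple (by rw [Nat.card_eq_fintype_card]; omega)
  haveI : Nontrivial (G ⧸ center G) := f.symm.injective.nontrivial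
  haveI : IsSimpleGroup (G ⧸ center G) := IsSimpleGroup.isSimpleGroup_of_surjective f.symm.toMonoidHom f.symm.surjective
  set q := QuotientGroup.mk' (center G) with hq
  have h8 := eight_dvd T e
  have hcc : Nat.card (G ⧸ center G) * 2 = Nat.card G := by
    rw [Subgroup.card_eq_card_quotient_mul_card_subgroup (center G), hZ]
  have htop : (commutator G).map q = ⊤ := by
    rw [_root_.commutator_def, map_commutator, ← MonoidHom.range_eq_map,
      MonoidHom.range_eq_top.2 (QuotientGroup.mk'_surjective _), ← _root_.commutator_def]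
    refine (IsSimpleGroup.eq_bot_or_eq_top_of_normal (commutator (G ⧸ center G)) inferInstance).resolve_left
      fun hb => ?_
    have hcomm : ∀ a b : G ⧸ center G, a * b = b * a := fun a b =>
      commutatorElement_eq_one_iff_mul_comm.1 (mem_bot.1 (hb ▸ commutator_mem_commutator (mem_top a) (mem_top b)))
    letI : CommGroup (G ⧸ center G) := { (inferInstance : Group (G ⧸ center G)) with mul_comm := hcomm }
    obtain ⟨p, hp⟩ : ∃ p, Nat.card (G ⧸ center G) = p := ⟨_, rfl⟩
    have hpr := IsSimpleGroup.prime_card (α := G ⧸ center G)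
    rw [hp] at hpr hcc
    have : 4 ∣ p := by omega
    have := (Nat.prime_dvd_prime_iff_eq Nat.prime_two hpr).1 ((show 2 ∣ 4 by norm_num).trans this)
    omega
  have h2 : 2 ∣ Nat.card ↥(commutator G) := by
    have hd := card_map_dvd (commutator G) q
    rw [htop, card_top] at hd
    exact Dvd.dvd.trans (by omega) hd
  have hZc := center_le_of_even T e hZ h2
  have hperf : commutator G = ⊤ := by
    have := comap_map_eq q (commutator G)
    rw [htop, comap_top, hq, QuotientGroup.ker_mk', sup_eq_left.2 hZc] at this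
    exact this.symm
  exact GWD.double_cover hodd h5 (center G) le_rfl hZ hperf f

theorem EqConj.quat_shape (h : EqConj G) (hO : GenDihedral.NoOdd G) (T : Sylow 2 G)
    (e : ↥(T : Subgroup G) ≃* QuaternionGroup 2) :
    Nonempty (G ≃* Matrix.SpecialLinearGroup (Fin 2) (ZMod 3)) ∨
      Nonempty (G ≃* Matrix.SpecialLinearGroup (Fin 2) (ZMod 5)) := by
  obtain ⟨hZ, hO', S, hS⟩ := quat_quotient hO T e
  by_cases hs : Group.IsSolvable (G ⧸ center G)
  · exact Or.inl (h.toP.quat_solvable hO T e hs)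
  obtain ⟨F, iF, iF', hF, ⟨f⟩⟩ := (h.quotient (center G)).four_nonsolvable hO' S hS hs
  obtain ⟨g⟩ := quat_psl hO T e (by rw [hF]; decide) (by omega) f
  haveI : Fact (Nat.Prime 5) := ⟨by norm_num⟩
  obtain ⟨σ⟩ := slCongr (ZMod.ringEquivOfPrime F (p := 5) (by norm_num) hF).symm
  exact Or.inr ⟨g.trans σ⟩

end Cfsg.Lib.EqualOrder
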