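import Cfsg.Agent.EqualOrder.Binary
import Cfsg.Agent.Walter.Main
import Cfsg.Agent.S0276

/-!
Elementary abelian Sylow 2-subgroups of order at least eight.
-/

set_option autoImplicit false
set_option linter.unusedSectionVars false
set_option linter.style.haveILetI false

namespace Cfsg.Lib.EqualOrder

open Subgroup

universe u

variable {G : Type u} [Group G] [Finite G]

theorem abTwo_sub (P : Sylow 2 G) (hel : Cfsg.IsElementaryAbelian 2 (P : Subgroup G)) (M : Subgroup G) :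
    Walter.AbTwo ↥M := by
  haveI : Fact (Nat.Prime 2) := ⟨Nat.prime_two⟩
  intro R x hx y hy
  obtain ⟨T, hT⟩ := (R.2.map M.subtype).exists_le_sylow
  have h1 : (⟨(x : G), hT ⟨x, hx, rfl⟩⟩ : ↥(T : Subgroup G)) * ⟨(y : G), hT ⟨y, hy, rfl⟩⟩ =
      ⟨(y : G), hT ⟨y, hy, rfl⟩⟩ * ⟨(x : G), hT ⟨x, hx, rfl⟩⟩ :=
    (Sylow.equiv T P).injective (by rw [map_mul, map_mul]; exact hel.1.is_comm.comm _ _)
  exact Subtype.ext (congrArg (fun z : ↥(T : Subgroup G) => (z : G)) h1)

theorem not_small (P : Sylow 2 G) (h8 : 8 ≤ Nat.card ↥(P : Subgroup G)) {M : Subgroup G}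
    (hPM : (P : Subgroup G) ≤ M) : ¬ GWFour.IsSmallSylowPSL ↥M := by
  rintro ⟨F, _, _, h, -, ⟨e⟩⟩
  haveI : Fact (Nat.Prime 2) := ⟨Nat.prime_two⟩
  haveI hK := Cfsg.Agent.S0276.result rfl h ((P.subtype hPM).mapSurjective (f := e.toMonoidHom) e.surjective)
  have h4 := hK.card_four
  have h5 : Nat.card ↥(((P : Subgroup G).subgroupOf M).map e.toMonoidHom) = 4 := h4
  rw [card_map_of_injective e.injective, Nat.card_congr (subgroupOfEquivOfLe hPM).toEquiv] at h5
  omega

/-- The cases with elementary Sylow 2-subgroups of order at least eight. -/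
theorem PEqConj.rank_shape (h : PEqConj G) (hO : GenDihedral.NoOdd G) (P : Sylow 2 G)
    (hel : Cfsg.IsElementaryAbelian 2 (P : Subgroup G)) (h8 : 8 ≤ Nat.card ↥(P : Subgroup G)) :
    Nonempty (G ≃* Cfsg.affineGroup (GaloisField 2 3)) ∨ Nonempty (G ≃* Cfsg.semiaffineGroup (GaloisField 2 3)) ∨
    Nonempty (G ≃* Cfsg.semiaffineGroup (GaloisField 2 5)) ∨
    Nonempty (G ≃* Matrix.ProjectiveSpecialLinearGroup (Fin 2) (GaloisField 2 3)) ∨
    Nonempty (G ≃* MulAut (Matrix.ProjectiveSpecialLinearGroup (Fin 2) (GaloisField 2 5))) ∨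
    ∃ M : Subgroup G, M.Normal ∧ (P : Subgroup G) ≤ M ∧ centralizer (M : Set G) = ⊥ ∧ IsSimpleGroup ↥M ∧
      ¬ IsMulCommutative ↥M ∧ Walter.IsJR ↥M := by
  by_cases hnt : GenDihedral.NoTwo G
  · obtain ⟨M, hMn, hs, hab, hPM, hcen⟩ := h.socle hO hnt P hel h8
    haveI := hMn
    haveI := hs
    rcases Walter.walterProp (↥M) hab (abTwo_sub P hel M) with ⟨F, _, _, ⟨m, hm, hF⟩, ⟨e⟩⟩ | hsm | hjr
    · rcases h.binary P hel h8 hs hab hPM hcen hm hF e with h1 | h1
      · exact Or.inr (Or.inr (Or.inr (Or.inl h1)))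
      · exact Or.inr (Or.inr (Or.inr (Or.inr (Or.inl h1))))
    · exact absurd hsm (not_small P h8 hPM)
    · exact Or.inr (Or.inr (Or.inr (Or.inr (Or.inr ⟨M, hMn, hPM, hcen, hs, hab, hjr⟩))))
  · rcases h.rank_normal hO P hel h8 hnt with h1 | h1 | h1
    · exact Or.inl h1
    · exact Or.inr (Or.inl h1)
    · exact Or.inr (Or.inr (Or.inl h1))

/-- Janko-Ree groups do not have all subgroups of equal order conjugate. -/
theorem EqConj.not_JR (h : EqConj G) {M : Subgroup G} (hj : Walter.IsJR ↥M) : False := by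
  obtain ⟨-, t, E, E₀, F, _, _, h5, h8, hH⟩ := hj
  obtain ⟨f⟩ := hH.iso
  set φ : Matrix.ProjectiveSpecialLinearGroup (Fin 2) F →* G :=
    M.subtype.comp (E₀.subtype.comp f.symm.toMonoidHom) with hφ
  have hφi : Function.Injective φ := fun a b hh =>
    f.symm.injective (E₀.subtype_injective (M.subtype_injective hh))
  have hF := h.psl_five h8 h5 φ hφi
  obtain ⟨H, -, ⟨g⟩⟩ := Cfsg.Lib.Classical.PSLTori.exists_nonsplit (q := 5) hF (by decide)
  have hord : orderOf (t : G) = 2 := by rw [Subgroup.orderOf_coe]; exact hH.ord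
  refine h.no_s_three_cent hord ((φ.comp H.subtype).comp g.symm.toMonoidHom)
    (fun a b hh => g.symm.injective (H.subtype_injective (hφi hh))) fun x => ?_
  exact (hH.comm _ (hH.le (f.symm _).2)).map M.subtype

end Cfsg.Lib.EqualOrder
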